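/-
The census of irreducible characters of `SL_2(q)`, `q` odd, by degree.

Main results (namespace `Cfsg.Agent.SL2Cusp`):
* `census` : the number of irreducible characters whose degree satisfies a predicate
* `card_degree_congr` : transport along an isomorphism
* `charDegree_eq` : the degree as a natural number
-/
import Cfsg.Agent.EqLemmas
import Cfsg.Agent.Lib.GLTwoChar.SLCounts
import Cfsg.Agent.Lib.Char.Orth

set_option autoImplicit false
set_option linter.unusedSectionVars false

namespace Cfsg.Agent.SL2Cusp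

open Matrix Cfsg GLTwoChar
open scoped MatrixGroups

theorem charDegree_eq {G : Type*} [Group G] {χ : G → ℂ} {n : ℕ} (h : χ 1 = (n : ℂ)) : charDegree χ = n := by
  simp [charDegree, h]

theorem card_degree_congr {G H : Type*} [Group G] [Group H] (e : G ≃* H) (P : ℕ → Prop) :
    Nat.card {χ : IrrCharacter G // P (charDegree (χ : G → ℂ))} =
      Nat.card {χ : IrrCharacter H // P (charDegree (χ : H → ℂ))} := by
  let f : IrrCharacter G ≃ IrrCharacter H :=
    { toFun := fun χ => ⟨fun h => (χ : G → ℂ) (e.symm h), Char.IsIrrCharacter.comp_equiv χ.2 e.symm⟩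
      invFun := fun χ => ⟨fun g => (χ : H → ℂ) (e g), Char.IsIrrCharacter.comp_equiv χ.2 e⟩
      left_inv := fun χ => Subtype.ext (funext fun g => congrArg (χ : G → ℂ) (e.symm_apply_apply g))
      right_inv := fun χ => Subtype.ext (funext fun h => congrArg (χ : H → ℂ) (e.apply_symm_apply h)) }
  refine Nat.card_congr (f.subtypeEquiv fun χ => ?_)
  simp [f, charDegree]

variable {F : Type*} [Field F] [Fintype F] [DecidableEq F]

open Classical in
/-- The kind of a character. -/
noncomputable def kindIdx (χ : IrrCharacter SL(2, F)) : Fin 6 :=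
  if (χ : SL(2, F) → ℂ) = 1 then 0
  else if (χ : SL(2, F) → ℂ) = stS F then 1
  else if ∃ γ : MulChar F ℂ, γ ^ 2 ≠ 1 ∧ (χ : SL(2, F) → ℂ) = psS γ then 2
  else if (slDatum F).Cusp (χ : SL(2, F) → ℂ) then
    (if 2 * (χ : SL(2, F) → ℂ) 1 = (Fintype.card F : ℂ) - 1 then 5 else 4) else 3

/-- The degree of each kind. -/
def kindDeg (q : ℕ) : Fin 6 → ℕ := ![1, q, q + 1, (q + 1) / 2, q - 1, (q - 1) / 2]

/-- The number of characters of each kind. -/
def kindNum (q : ℕ) : Fin 6 → ℕ := ![1, 1, (q - 3) / 2, 2, (q - 1) / 2, 2]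

theorem kind_spec (hodd : Odd (Fintype.card F)) (χ : IrrCharacter SL(2, F)) :
    (χ : SL(2, F) → ℂ) 1 = (kindDeg (Fintype.card F) (kindIdx χ) : ℂ) := by
  classical
  obtain ⟨m, hm⟩ := id hodd
  have hq := Fintype.one_lt_card (α := F)
  have hp : ((((Fintype.card F + 1) / 2 : ℕ)) : ℂ) * 2 = (Fintype.card F : ℂ) + 1 := by
    rw [show (Fintype.card F + 1) / 2 = m + 1 by omega, hm]; push_cast; ring
  have hmi : ((((Fintype.card F - 1) / 2 : ℕ)) : ℂ) * 2 = (Fintype.card F : ℂ) - 1 := by
    rw [show (Fintype.card F - 1) / 2 = m by omega, hm]; push_cast; ring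
  unfold kindIdx
  split_ifs with h1 h2 h3 h4 h5
  · rw [h1]; simp [kindDeg]
  · rw [h2, stS_one]; simp [kindDeg]
  · obtain ⟨γ, -, hγ⟩ := h3
    rw [hγ, psS_one]; simp [kindDeg]
  · simp only [kindDeg, Matrix.cons_val]
    linear_combination (h5 - hmi) / 2
  · rcases sl_cases χ.2 with h | h | h | ⟨γ, -, -, h', h⟩ | ⟨-, ⟨h, -⟩ | h⟩
    · exact absurd h h1
    · exact absurd h h2
    · exact absurd h h3
    · exact absurd h4 (not_cusp_of_psS (Char.IsIrrCharacter.isCharacter χ.2) h')
    · simp only [kindDeg, Matrix.cons_val]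
      rw [Nat.cast_sub (by omega), Nat.cast_one]
      exact h
    · exact absurd h h5
  · rcases sl_cases χ.2 with h | h | h | ⟨γ, -, -, -, h⟩ | ⟨h, -⟩
    · exact absurd h h1
    · exact absurd h h2
    · exact absurd h h3
    · simp only [kindDeg, Matrix.cons_val]
      linear_combination (h - hp) / 2
    · exact absurd h h4

theorem kind_card (hodd : Odd (Fintype.card F)) (i : Fin 6) :
    Nat.card {χ : IrrCharacter SL(2, F) // kindIdx χ = i} = kindNum (Fintype.card F) i := by
  classical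
  have hq := Fintype.one_lt_card (α := F)
  obtain ⟨χ₁, χ₂, h1, h2, h3, hd1, hd2, hn1, hn2, hhalf⟩ := exists_half hodd
  obtain ⟨ce, cd⟩ := sl_counts (F := F) hodd
  have cC := card_psS_irr (F := F) hodd
  have hst1 : stS F ≠ (1 : SL(2, F) → ℂ) := fun h => by
    have := congrFun h 1
    rw [stS_one, Pi.one_apply, Nat.cast_eq_one] at this
    omega
  have hps1 : ∀ γ : MulChar F ℂ, psS γ ≠ (1 : SL(2, F) → ℂ) := fun γ h => by
    have := congrFun h 1
    rw [psS_one, Pi.one_apply] at this
    exact Fintype.card_ne_zero (α := F) (by exact_mod_cast (show (Fintype.card F : ℂ) = 0 by linear_combination this))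
  have hpst : ∀ γ : MulChar F ℂ, psS γ ≠ stS F := fun γ h => by
    have := congrFun h 1
    rw [psS_one, stS_one] at this
    exact one_ne_zero (α := ℂ) (by linear_combination this)
  have hcps : ∀ χ : IrrCharacter SL(2, F), (slDatum F).Cusp (χ : SL(2, F) → ℂ) →
      (χ : SL(2, F) → ℂ) ≠ 1 ∧ (χ : SL(2, F) → ℂ) ≠ stS F ∧
        ¬ ∃ γ : MulChar F ℂ, γ ^ 2 ≠ 1 ∧ (χ : SL(2, F) → ℂ) = psS γ := fun χ hc =>
    ⟨fun e => not_cusp_one (e ▸ hc), fun e => not_cusp_stS (e ▸ hc), fun ⟨γ, _, e⟩ =>
      not_cusp_of_psS (Char.IsIrrCharacter.isCharacter χ.2) (γ := γ)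
        (by rw [← e, Char.classInner_irr_self χ.2]; exact one_ne_zero) hc⟩
  fin_cases i <;> simp only [kindNum, Matrix.cons_val, Fin.zero_eta, Fin.mk_one, Fin.reduceFinMk]
  · rw [Nat.card_eq_one_iff_exists]
    refine ⟨⟨⟨1, Char.isIrrCharacter_one⟩, by simp [kindIdx]⟩, ?_⟩
    rintro ⟨χ, hχ⟩
    refine Subtype.ext (Subtype.ext ?_)
    unfold kindIdx at hχ
    split_ifs at hχ <;> first | assumption | exact absurd hχ (by decide)
  · rw [Nat.card_eq_one_iff_exists]
    refine ⟨⟨⟨stS F, stS_irr⟩, by simp [kindIdx, hst1]⟩, ?_⟩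
    rintro ⟨χ, hχ⟩
    refine Subtype.ext (Subtype.ext ?_)
    unfold kindIdx at hχ
    split_ifs at hχ <;> first | assumption | exact absurd hχ (by decide)
  · rw [show (Fintype.card F - 3) / 2 = Nat.card {θ : IrrCharacter SL(2, F) // ∃ γ : MulChar F ℂ, γ ^ 2 ≠ 1 ∧ (θ : SL(2, F) → ℂ) = psS γ} by omega]
    refine Nat.card_congr (Equiv.subtypeEquivRight fun χ => ⟨fun hχ => ?_, fun hχ => ?_⟩)
    · unfold kindIdx at hχ
      split_ifs at hχ <;> first | assumption | exact absurd hχ (by decide)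
    · obtain ⟨γ, hγ, e⟩ := hχ
      unfold kindIdx
      rw [if_neg (e ▸ hps1 γ), if_neg (e ▸ hpst γ), if_pos ⟨γ, hγ, e⟩]
  · have hmem : ∀ χ₀ : SL(2, F) → ℂ, ∀ h : IsIrrCharacter SL(2, F) χ₀, 2 * χ₀ 1 = (Fintype.card F : ℂ) + 1 →
        ¬ (slDatum F).Cusp χ₀ → kindIdx ⟨χ₀, h⟩ = 3 := by
      intro χ₀ h hd hn
      unfold kindIdx
      rw [if_neg, if_neg, if_neg, if_neg hn]
      · rintro ⟨γ, -, e⟩
        simp only at e
        rw [e, psS_one] at hd
        exact Nat.cast_add_one_ne_zero (Fintype.card F) (show (Fintype.card F : ℂ) + 1 = 0 by linear_combination hd)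
      · intro e
        simp only at e
        rw [e, stS_one] at hd
        have : Fintype.card F = 1 := by exact_mod_cast (show (Fintype.card F : ℂ) = ((1 : ℕ) : ℂ) by push_cast; linear_combination hd)
        omega
      · intro e
        simp only at e
        rw [e, Pi.one_apply] at hd
        have : Fintype.card F = 1 := by exact_mod_cast (show (Fintype.card F : ℂ) = ((1 : ℕ) : ℂ) by push_cast; linear_combination -hd)
        omega
    rw [Nat.card_eq_two_iff]
    refine ⟨⟨⟨χ₁, h1⟩, hmem _ h1 hd1 hn1⟩, ⟨⟨χ₂, h2⟩, hmem _ h2 hd2 hn2⟩,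
      fun h => h3 (congrArg (fun z => (z : IrrCharacter _).1) (congrArg Subtype.val h)), Set.eq_univ_of_forall ?_⟩
    rintro ⟨⟨θ, hθ⟩, hk⟩
    unfold kindIdx at hk
    split_ifs at hk with a b c d <;> try exact absurd hk (by decide)
    rcases sl_cases hθ with h | h | h | ⟨γ, g1, g2, g3, -⟩ | ⟨h, -⟩
    · exact absurd h a
    · exact absurd h b
    · exact absurd h c
    · rcases hhalf θ hθ γ g1 g2 g3 with rfl | rfl
      · exact Or.inl rfl
      · exact Or.inr rfl
    · exact absurd h d
  · refine Eq.trans ?_ cd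
    refine Nat.card_congr (Equiv.subtypeEquivRight fun χ => ⟨fun hχ => ?_, fun hχ => ?_⟩)
    · have hd := kind_spec hodd χ
      rw [hχ] at hd
      unfold kindIdx at hχ
      split_ifs at hχ with a b c d e <;> try exact absurd hχ (by decide)
      refine ⟨d, ?_⟩
      rw [hd]
      simp [kindDeg, Nat.cast_sub (show 1 ≤ Fintype.card F by omega)]
    · obtain ⟨hc, hd⟩ := hχ
      obtain ⟨a, b, c⟩ := hcps χ hc
      unfold kindIdx
      rw [if_neg a, if_neg b, if_neg c, if_pos hc, if_neg]
      intro e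
      rw [hd] at e
      have : Fintype.card F = 1 := by exact_mod_cast (show (Fintype.card F : ℂ) = ((1 : ℕ) : ℂ) by push_cast; linear_combination e)
      omega
  · refine Eq.trans ?_ ce
    refine Nat.card_congr (Equiv.subtypeEquivRight fun χ => ⟨fun hχ => ?_, fun hχ => ?_⟩)
    · unfold kindIdx at hχ
      split_ifs at hχ with a b c d e <;> try exact absurd hχ (by decide)
      exact ⟨d, e⟩
    · obtain ⟨hc, hd⟩ := hχ
      obtain ⟨a, b, c⟩ := hcps χ hc
      unfold kindIdx
      rw [if_neg a, if_neg b, if_neg c, if_pos hc, if_pos hd]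

open Classical in
theorem census (hodd : Odd (Fintype.card F)) (P : ℕ → Prop) :
    Nat.card {χ : IrrCharacter SL(2, F) // P (charDegree (χ : SL(2, F) → ℂ))} =
      ∑ i : Fin 6, if P (kindDeg (Fintype.card F) i) then kindNum (Fintype.card F) i else 0 := by
  haveI := Fintype.ofFinite (IrrCharacter SL(2, F))
  rw [Nat.card_congr (Equiv.subtypeEquivRight (q := fun χ => P (kindDeg (Fintype.card F) (kindIdx χ)))
    fun χ => by rw [charDegree_eq (kind_spec hodd χ)]), Nat.card_eq_fintype_card, Fintype.card_subtype,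
    Finset.card_eq_sum_card_fiberwise (f := kindIdx) (t := Finset.univ) (fun _ _ => Finset.mem_univ _)]
  refine Finset.sum_congr rfl fun i _ => ?_
  rw [Finset.filter_filter]
  split_ifs with h
  · rw [← kind_card hodd i, Nat.card_eq_fintype_card, Fintype.card_subtype]
    exact congrArg Finset.card (Finset.filter_congr fun χ _ => ⟨fun e => e.2, fun e => ⟨by rwa [e], e⟩⟩)
  · rw [Finset.card_eq_zero, Finset.filter_eq_empty_iff]
    intro χ _ e
    exact h (by rw [← e.2]; exact e.1)

end Cfsg.Agent.SL2Cusp
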