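/-
Summation of class functions over `SL_2(q)`, `q` odd, through the two maximal tori and the unipotent classes.

Main results (namespace `Cfsg.Agent.SL2Cusp`):
* `sum_conj_ti` : sum over the conjugates of a TI set
* `TorusPair`, `torus_facts` : facts on a cyclic subgroup of order `q + 1`
* `sum_SL2` : the summation formula
-/
import Cfsg.Agent.EqLemmas
import Cfsg.Agent.Lib.GLOrder.TorusClasses
import Cfsg.Agent.Lib.GLTwoChar.SLTable
import Cfsg.Agent.Lib.GLTwoChar.Unipotent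

set_option autoImplicit false
set_option linter.unusedSectionVars false

namespace Cfsg.Agent.SL2Cusp

open Matrix Cfsg
open scoped MatrixGroups

theorem sum_conj_ti {G : Type*} [Group G] [Fintype G] (T : Subgroup G) (S : Finset G)
    (hST : ∀ x ∈ S, x ∈ T) (hC : ∀ x ∈ S, Subgroup.centralizer ({x} : Set G) = T)
    (hN : ∀ n ∈ Subgroup.normalizer (T : Set G), ∀ x ∈ S, n * x * n⁻¹ ∈ S)
    (E : Finset G) (hE : ∀ y, y ∈ E ↔ ∃ x ∈ S, IsConj x y)
    {f : G → ℂ} (hf : IsClassFunction G f) :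
    (Nat.card (Subgroup.normalizer (T : Set G)) : ℂ) * ∑ y ∈ E, f y = (Nat.card G : ℂ) * ∑ x ∈ S, f x := by
  classical
  let Φ : G × G → G := fun p => p.1 * p.2 * p.1⁻¹
  have hmap : ∀ p ∈ (Finset.univ : Finset G) ×ˢ S, Φ p ∈ E := fun p hp =>
    (hE _).2 ⟨p.2, (Finset.mem_product.1 hp).2, isConj_iff.2 ⟨p.1, rfl⟩⟩
  have h1 : ∑ p ∈ (Finset.univ : Finset G) ×ˢ S, f (Φ p) = (Nat.card G : ℂ) * ∑ x ∈ S, f x := by
    rw [Finset.sum_product, Finset.sum_congr rfl (fun g _ => Finset.sum_congr rfl fun x _ => hf x g),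
      Finset.sum_const, Finset.card_univ, nsmul_eq_mul, Nat.card_eq_fintype_card]
  rw [← h1, ← Finset.sum_fiberwise_of_maps_to hmap, Finset.mul_sum]
  refine Finset.sum_congr rfl fun y hy => ?_
  rw [Finset.sum_congr rfl (fun p hp => by rw [(Finset.mem_filter.1 hp).2]), Finset.sum_const, nsmul_eq_mul]
  congr 1
  obtain ⟨x0, hx0, hc⟩ := (hE y).1 hy
  obtain ⟨g0, hg0⟩ := isConj_iff.1 hc
  rw [Nat.card_eq_fintype_card, Nat.cast_inj]
  refine Finset.card_bij (fun n _ => (g0 * (n : G), (n : G)⁻¹ * x0 * n)) ?_ ?_ ?_ (s := (Finset.univ : Finset (Subgroup.normalizer (T : Set G))))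
  · intro n _
    refine Finset.mem_filter.2 ⟨Finset.mem_product.2 ⟨Finset.mem_univ _, ?_⟩, ?_⟩
    · have := hN _ (inv_mem n.2) x0 hx0
      rwa [inv_inv] at this
    · rw [← hg0]
      show g0 * (n : G) * ((n : G)⁻¹ * x0 * n) * (g0 * (n : G))⁻¹ = g0 * x0 * g0⁻¹
      group
  · intro a _ b _ h
    exact Subtype.ext (mul_left_cancel (congrArg Prod.fst h))
  · rintro ⟨g, x⟩ hp
    rw [Finset.mem_filter, Finset.mem_product] at hp
    obtain ⟨⟨-, hx⟩, he⟩ := hp
    have hn : (g0⁻¹ * g) * x * (g0⁻¹ * g)⁻¹ = x0 := by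
      rw [show g0⁻¹ * g * x * (g0⁻¹ * g)⁻¹ = g0⁻¹ * (g * x * g⁻¹) * g0 by group,
        show g * x * g⁻¹ = y from he, ← hg0]
      group
    have hmem : g0⁻¹ * g ∈ Subgroup.normalizer (T : Set G) := by
      rw [Subgroup.mem_normalizer_iff]
      intro z
      constructor
      · intro hz
        rw [← hC x0 hx0, Subgroup.mem_centralizer_singleton_iff]
        rw [← hC x hx, Subgroup.mem_centralizer_singleton_iff] at hz
        rw [← hn]
        calc g0⁻¹ * g * z * (g0⁻¹ * g)⁻¹ * (g0⁻¹ * g * x * (g0⁻¹ * g)⁻¹)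
            = g0⁻¹ * g * (z * x) * (g0⁻¹ * g)⁻¹ := by group
          _ = _ := by rw [hz]; group
      · intro hz
        rw [← hC x0 hx0, Subgroup.mem_centralizer_singleton_iff, ← hn] at hz
        rw [← hC x hx, Subgroup.mem_centralizer_singleton_iff]
        calc z * x = (g0⁻¹ * g)⁻¹ * (g0⁻¹ * g * z * (g0⁻¹ * g)⁻¹ *
              (g0⁻¹ * g * x * (g0⁻¹ * g)⁻¹)) * (g0⁻¹ * g) := by group
          _ = x * z := by rw [hz]; group
    refine ⟨⟨g0⁻¹ * g, hmem⟩, Finset.mem_univ _, ?_⟩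
    refine Prod.ext (mul_inv_cancel_left g0 g) ?_
    show (g0⁻¹ * g)⁻¹ * x0 * (g0⁻¹ * g) = x
    rw [← hn]; group

variable {F : Type*} [Field F] [Fintype F]

/-- Facts on a cyclic subgroup of order `q + 1`. -/
structure IsTorus (C : Subgroup SL(2, F)) : Prop where
  cyc : IsCyclic C
  card : Nat.card C = Fintype.card F + 1

theorem two_ne_zero_of_odd (hodd : Odd (Fintype.card F)) : (2 : F) ≠ 0 := by
  intro h2
  have hcast : ((Fintype.card F : ℕ) : F) = 0 := FiniteField.cast_card_eq_zero F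
  obtain ⟨m, hm⟩ := hodd
  rw [hm] at hcast
  push_cast at hcast
  rw [h2, zero_mul, zero_add] at hcast
  exact one_ne_zero hcast

variable {C : Subgroup SL(2, F)}

theorem IsTorus.exists_gen (hT : IsTorus C) (hodd : Odd (Fintype.card F)) :
    ∃ t, C = Subgroup.zpowers t ∧ orderOf t = Nat.card F + 1 ∧
      Subgroup.centralizer ({t} : Set SL(2, F)) = Subgroup.zpowers t := by
  have h2 := two_ne_zero_of_odd hodd
  rw [← Nat.card_eq_fintype_card] at hodd
  haveI := hT.cyc
  obtain ⟨c, hc⟩ := IsCyclic.exists_ofOrder_eq_natCard (α := C)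
  have ht : orderOf (c : SL(2, F)) = Nat.card F + 1 := by
    rw [Subgroup.orderOf_coe, hc, hT.card, Nat.card_eq_fintype_card]
  set t := (c : SL(2, F))
  have hCt : C = Subgroup.zpowers t := by
    refine (Subgroup.eq_of_le_of_card_ge (Subgroup.zpowers_le.2 c.2) ?_).symm
    rw [Nat.card_zpowers, ht, hT.card, Nat.card_eq_fintype_card]
  refine ⟨t, hCt, ht, ?_⟩
  have he : Even (Nat.card F + 1) := Nat.even_add_one.2 (Nat.not_even_iff_odd.2 hodd)
  have hd0 : ((Nat.card F + 1 : ℕ) : F) ≠ 0 := by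
    push_cast
    rw [Nat.card_eq_fintype_card, FiniteField.cast_card_eq_zero]
    simp
  have hq1 := GLOrder.one_lt_card_field (F := F)
  have htc : t ∉ Subgroup.center SL(2, F) := fun hc' => by
    have h1 : t ^ 2 = 1 := by rcases GLOrder.center_SL2.1 hc' with h | h <;> simp [h]
    have := Nat.le_of_dvd two_pos (orderOf_dvd_of_pow_eq_one h1)
    omega
  have h4 := GLOrder.tr_sq_ne_four h2 hd0 he (ht ▸ pow_orderOf_eq_one t) htc
  obtain ⟨t0, ht0, hC0⟩ := GLOrder.exists_nonsplit_torus (F := F) h2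
  rcases GLOrder.exists_trace_eq h2 ht0 he hC0 (PSL2.tr t) with ⟨l, hl⟩ | ⟨x, hx, htr, -⟩
  · exfalso
    have h1 := Nat.le_of_dvd (by omega) (orderOf_dvd_of_pow_eq_one (GLOrder.pow_sub_one_of_root h2 h4 hl))
    omega
  obtain ⟨g, hg⟩ := isConj_iff.1 (GLOrder.isConj_of_trace_odd h2 htr.symm h4)
  have hxc : x ∉ Subgroup.center SL(2, F) := fun hc' => by
    have := GLOrder.tr_sq_of_mem_center hc'
    rw [htr] at this
    exact h4 this
  obtain ⟨hcx, -⟩ := GLOrder.torus_structure h2 hd0 he (by omega) ht0 hC0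
  have hle : Subgroup.zpowers t ≤ Subgroup.centralizer ({t} : Set SL(2, F)) :=
    Subgroup.zpowers_le.2 (GLOrder.mem_centralizer_singleton.2 (Commute.refl t))
  refine (Subgroup.eq_of_le_of_card_ge hle (le_of_eq ?_)).symm
  rw [Nat.card_zpowers, ht, ← ht0, ← Nat.card_zpowers, ← hcx x hx hxc, ← hg]
  refine Nat.card_congr ((MulAut.conj g).toEquiv.subtypeEquiv fun z => ?_)
  rw [GLOrder.mem_centralizer_singleton, GLOrder.mem_centralizer_singleton]
  show Commute z t ↔ Commute (g * z * g⁻¹) (g * t * g⁻¹)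
  exact (Commute.conj_iff g).symm

theorem IsTorus.hd0 (_ : IsTorus C) : ((Nat.card F + 1 : ℕ) : F) ≠ 0 := by
  push_cast
  rw [Nat.card_eq_fintype_card, FiniteField.cast_card_eq_zero]
  simp

theorem IsTorus.even (_ : IsTorus C) (hodd : Odd (Fintype.card F)) : Even (Nat.card F + 1) := by
  rw [Nat.card_eq_fintype_card]
  exact Nat.even_add_one.2 (Nat.not_even_iff_odd.2 hodd)

theorem IsTorus.pow_eq_one (hT : IsTorus C) {c : SL(2, F)} (hc : c ∈ C) : c ^ (Nat.card F + 1) = 1 := by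
  have h := orderOf_dvd_natCard (⟨c, hc⟩ : C)
  rw [hT.card, ← Subgroup.orderOf_coe, ← Nat.card_eq_fintype_card] at h
  exact orderOf_dvd_iff_pow_eq_one.1 h

theorem IsTorus.neg_one_mem (hT : IsTorus C) (hodd : Odd (Fintype.card F)) : (-1 : SL(2, F)) ∈ C := by
  obtain ⟨t, hCt, -, hC⟩ := hT.exists_gen hodd
  rw [hCt, ← hC]
  exact GLOrder.mem_centralizer_singleton.2 (Commute.neg_one_left t)

theorem IsTorus.tr_sq_ne (hT : IsTorus C) (hodd : Odd (Fintype.card F)) {c : SL(2, F)} (hc : c ∈ C)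
    (hcz : c ∉ Subgroup.center SL(2, F)) : PSL2.tr c ^ 2 ≠ 4 :=
  GLOrder.tr_sq_ne_four (two_ne_zero_of_odd hodd) hT.hd0 (hT.even hodd) (hT.pow_eq_one hc) hcz

theorem IsTorus.no_root (hT : IsTorus C) (hodd : Odd (Fintype.card F)) {c : SL(2, F)} (hc : c ∈ C)
    (hcz : c ∉ Subgroup.center SL(2, F)) (l : F) : l ^ 2 - PSL2.tr c * l + 1 ≠ 0 := by
  intro hl
  have h2 := two_ne_zero_of_odd hodd
  have h4 := hT.tr_sq_ne hodd hc hcz
  have h1 := GLOrder.pow_sub_one_of_root h2 h4 hl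
  have h3 := hT.pow_eq_one hc
  have hq1 := GLOrder.one_lt_card_field (F := F)
  rw [show Nat.card F + 1 = Nat.card F - 1 + 2 by omega, pow_add, h1, one_mul, pow_two] at h3
  exact hcz (GLOrder.center_SL2.2 (GLOrder.eq_one_or_neg_one_of_sq h2 h3))

theorem isEll_of_no_root {g : SL(2, F)} (h : ∀ l : F, l ^ 2 - PSL2.tr g * l + 1 ≠ 0) :
    (GLTwoChar.slDatum F).IsEll g := by
  intro l v hv he
  have hdet : ((g : Matrix (Fin 2) (Fin 2) F) - l • (1 : Matrix (Fin 2) (Fin 2) F)).det = 0 := by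
    refine Matrix.exists_mulVec_eq_zero_iff.1 ⟨v, hv, ?_⟩
    rw [Matrix.sub_mulVec, Matrix.smul_mulVec, Matrix.one_mulVec, sub_eq_zero]
    exact he
  apply h l
  have hd := PSL2.det_eq g
  simp [Matrix.det_fin_two] at hdet
  unfold PSL2.tr
  linear_combination hdet - hd

theorem tr_eq (g : SL(2, F)) : PSL2.tr g = g 0 0 + g 1 1 := rfl

theorem isScalar_iff_center (g : SL(2, F)) :
    GLTwoChar.IsScalar (g : Matrix (Fin 2) (Fin 2) F) ↔ g ∈ Subgroup.center SL(2, F) :=
  not_iff_not.1 GLOrder.not_isScalar_iff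

variable [DecidableEq F]

open Classical in
/-- Sum of a class function over the non-central elements of trace two. -/
theorem sum_unipotent (hodd : Odd (Fintype.card F)) {f : SL(2, F) → ℂ} (hf : IsClassFunction SL(2, F) f) {A : ℂ}
    (hA : ∀ b : F, b ≠ 0 → f (GLTwoChar.uSL b) = A) :
    ∑ y ∈ Finset.univ.filter (fun y : SL(2, F) => PSL2.tr y = 2 ∧ y ∉ Subgroup.center SL(2, F)), f y =
      ((Fintype.card F : ℂ) ^ 2 - 1) * A := by
  set U := Finset.univ.filter (fun y : SL(2, F) => PSL2.tr y = 2 ∧ y ∉ Subgroup.center SL(2, F))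
  have h2 := two_ne_zero_of_odd hodd
  have hval : ∀ y ∈ U, f y = A := by
    intro y hy
    rw [Finset.mem_filter] at hy
    obtain ⟨b, hb, hc⟩ := GLTwoChar.exists_isConj_uSL (g := y) hy.2.1 (mt (isScalar_iff_center y).1 hy.2.2)
    obtain ⟨k, hk⟩ := isConj_iff.1 hc
    rw [← hA b hb, ← hk, hf]
  rw [Finset.sum_congr rfl hval, Finset.sum_const, nsmul_eq_mul]
  congr 1
  have hcr : ringChar F ≠ 2 := fun h => h2 (by
    haveI := ringChar.of_eq h
    exact CharTwo.two_eq_zero)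
  obtain ⟨e, he⟩ := FiniteField.exists_nonsquare hcr
  have he0 : e ≠ 0 := GLTwoChar.ne_zero_of_nonsquare he
  let K := fun b : F => Finset.univ.filter (fun y : SL(2, F) => IsConj (GLTwoChar.uSL b) y)
  have hKc : ∀ b, b ≠ 0 → (K b).card = (Fintype.card F ^ 2 - 1) / 2 := fun b hb => by
    rw [← GLTwoChar.card_class_uSL h2 hb, Nat.card_eq_fintype_card, ← Fintype.card_subtype]
    exact Fintype.card_congr (Equiv.subtypeEquivRight fun y => by
      rw [ConjClasses.mem_carrier_iff_mk_eq, ConjClasses.mk_eq_mk_iff_isConj, isConj_comm])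
  have hU : U = K 1 ∪ K e := by
    ext y
    simp only [U, K, Finset.mem_union, Finset.mem_filter, Finset.mem_univ, true_and]
    constructor
    · rintro ⟨ht, hc⟩
      obtain ⟨b, hb, hcj⟩ := GLTwoChar.exists_isConj_uSL (g := y) ht (mt (isScalar_iff_center y).1 hc)
      by_cases hs : IsSquare b
      · exact Or.inl (((GLTwoChar.isConj_uSL_iff one_ne_zero hb).2 (by rwa [one_mul])).trans hcj.symm)
      · refine Or.inr (((GLTwoChar.isConj_uSL_iff he0 hb).2 ?_).trans hcj.symm)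
        have hd := FiniteField.pow_dichotomy hcr he0
        have hd' := FiniteField.pow_dichotomy hcr hb
        rw [FiniteField.isSquare_iff hcr (mul_ne_zero he0 hb), mul_pow,
          hd.resolve_left fun h => he ((FiniteField.isSquare_iff hcr he0).2 h),
          hd'.resolve_left fun h => hs ((FiniteField.isSquare_iff hcr hb).2 h), neg_one_mul, neg_neg]
    · intro h
      have key : ∀ b, b ≠ 0 → IsConj (GLTwoChar.uSL b) y → PSL2.tr y = 2 ∧ y ∉ Subgroup.center SL(2, F) := by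
        intro b hb hcj
        obtain ⟨k, hk⟩ := isConj_iff.1 hcj
        constructor
        · rw [← hk, PSL2.tr_conj, tr_eq]
          simp [GLTwoChar.coe_uSL, one_add_one_eq_two]
        · intro hc
          refine GLTwoChar.not_isScalar_uSL hb ((isScalar_iff_center _).2 ?_)
          rw [show GLTwoChar.uSL b = k⁻¹ * y * k by rw [← hk]; group, mul_assoc,
            (Subgroup.mem_center_iff.1 hc k).symm, inv_mul_cancel_left]
          exact hc
      rcases h with h | h
      · exact key 1 one_ne_zero h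
      · exact key e he0 h
  have hdis : Disjoint (K 1) (K e) := by
    rw [Finset.disjoint_filter]
    intro y _ h1 h1'
    have := (GLTwoChar.isConj_uSL_iff one_ne_zero he0).1 (h1.trans h1'.symm)
    rw [one_mul] at this
    exact he this
  rw [hU, Finset.card_union_of_disjoint hdis, hKc 1 one_ne_zero, hKc e he0]
  have h8 : 2 ∣ Fintype.card F ^ 2 - 1 := by
    obtain ⟨m, hm⟩ := hodd
    exact ⟨2 * m * (m + 1), by rw [hm, show (2 * m + 1) ^ 2 = 2 * (2 * m * (m + 1)) + 1 by ring, Nat.add_sub_cancel]⟩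
  rw [show (Fintype.card F ^ 2 - 1) / 2 + (Fintype.card F ^ 2 - 1) / 2 = Fintype.card F ^ 2 - 1 by omega,
    Nat.cast_sub (Nat.one_le_pow _ _ Fintype.card_pos), Nat.cast_pow, Nat.cast_one]

/-- Diagonal element. -/
abbrev dg (a : Fˣ) : SL(2, F) := GLOrder.diagS F a

theorem tr_dg (a : Fˣ) : PSL2.tr (dg a) = (a : F) + (a : F)⁻¹ := by
  simp [dg, tr_eq, GLOrder.diagS_apply]

theorem dg_mem_center_iff (a : Fˣ) : dg a ∈ Subgroup.center SL(2, F) ↔ a ^ 2 = 1 := by
  rw [S2437.sq_ne_iff, ← isScalar_iff_center]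
  simp [GLTwoChar.IsScalar, dg, GLOrder.diagS_apply]

theorem tr_sq_dg {a : Fˣ} (ha : a ^ 2 ≠ 1) : PSL2.tr (dg a) ^ 2 ≠ 4 := by
  rw [tr_dg]
  intro h
  apply ha
  rw [S2437.sq_ne_iff]
  have : ((a : F) - (a : F)⁻¹) ^ 2 = 0 := by
    linear_combination h - 4 * mul_inv_cancel₀ a.ne_zero
  exact sub_eq_zero.1 ((pow_eq_zero_iff two_ne_zero).1 this)

theorem centralizer_dg {a : Fˣ} (ha : a ^ 2 ≠ 1) :
    Subgroup.centralizer ({dg a} : Set SL(2, F)) = (GLOrder.diagS F).range := by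
  have hne : (a : F) - (a : F)⁻¹ ≠ 0 := sub_ne_zero.2 fun h => ha ((S2437.sq_ne_iff a).2 h)
  ext g
  rw [GLOrder.mem_centralizer_singleton]
  constructor
  · intro h
    have e := congrArg Subtype.val h.eq
    have e01 := congrFun (congrFun e 0) 1
    have e10 := congrFun (congrFun e 1) 0
    simp [dg, Matrix.mul_apply, Fin.sum_univ_two, GLOrder.diagS_apply] at e01 e10
    have h01 : g 0 1 = 0 := (mul_eq_zero.1 (show ((a : F) - (a : F)⁻¹) * g 0 1 = 0 by
      linear_combination -e01)).resolve_left hne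
    have h10 : g 1 0 = 0 := (mul_eq_zero.1 (show ((a : F) - (a : F)⁻¹) * g 1 0 = 0 by
      linear_combination e10)).resolve_left hne
    have hd := PSL2.det_eq g
    rw [h01, zero_mul, sub_zero] at hd
    refine ⟨Units.mk0 _ (left_ne_zero_of_mul_eq_one hd), ?_⟩
    ext i k
    fin_cases i <;> fin_cases k <;> simp [GLOrder.diagS_apply, h01, h10]
    exact (eq_inv_of_mul_eq_one_right hd).symm
  · rintro ⟨b, rfl⟩
    exact (Commute.all b a).map (GLOrder.diagS F)

theorem card_normalizer_diag (hodd : Odd (Fintype.card F)) (h3 : 3 < Fintype.card F) :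
    Nat.card (Subgroup.normalizer (((GLOrder.diagS F).range : Subgroup SL(2, F)) : Set SL(2, F))) =
      2 * (Fintype.card F - 1) := by
  have h2 := two_ne_zero_of_odd hodd
  obtain ⟨u, hu⟩ := IsCyclic.exists_ofOrder_eq_natCard (α := Fˣ)
  rw [← Nat.card_eq_fintype_card] at hodd h3 ⊢
  have hord : orderOf (dg u) = Nat.card F - 1 := by
    rw [orderOf_injective _ GLOrder.diagS_injective, hu, GLOrder.card_units]
  have hu2 : u ^ 2 ≠ 1 := fun h => by
    have := Nat.le_of_dvd two_pos (orderOf_dvd_of_pow_eq_one h)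
    rw [hu, GLOrder.card_units] at this
    obtain ⟨m, hm⟩ := hodd
    omega
  have hr : (GLOrder.diagS F).range = Subgroup.zpowers (dg u) := by
    rw [MonoidHom.range_eq_map, ← MonoidHom.map_zpowers,
      Subgroup.eq_top_of_card_eq (Subgroup.zpowers u) (by rw [Nat.card_zpowers, hu])]
  have hd0 : ((Nat.card F - 1 : ℕ) : F) ≠ 0 := by
    rw [Nat.cast_sub (by omega), Nat.card_eq_fintype_card, FiniteField.cast_card_eq_zero]
    simp
  obtain ⟨-, -, h, -⟩ := GLOrder.torus_structure h2 hd0 (Nat.Odd.sub_odd hodd odd_one)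
    (by obtain ⟨m, hm⟩ := hodd; omega) hord (by rw [centralizer_dg hu2, hr])
  rw [hr, h]

open Classical in
/-- The summation formula. -/
theorem sum_SL2 (hodd : Odd (Fintype.card F)) (hT : IsTorus C) {f : SL(2, F) → ℂ}
    (hf : IsClassFunction SL(2, F) f) {A A' : ℂ} (hA : ∀ b : F, b ≠ 0 → f (GLTwoChar.uSL b) = A)
    (hA' : ∀ b : F, b ≠ 0 → f (-GLTwoChar.uSL b) = A') :
    ∑ g, f g = f 1 + f (-1) + ((Fintype.card F : ℂ) ^ 2 - 1) * (A + A') +
      (Fintype.card F : ℂ) * ((Fintype.card F : ℂ) + 1) / 2 *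
        ∑ a ∈ Finset.univ.filter (fun a : Fˣ => a ^ 2 ≠ 1), f (dg a) +
      (Fintype.card F : ℂ) * ((Fintype.card F : ℂ) - 1) / 2 *
        ∑ c ∈ Finset.univ.filter (fun c : C => (c : SL(2, F)) ∉ Subgroup.center SL(2, F)), f c := by
  have h2 := two_ne_zero_of_odd hodd
  obtain ⟨t, hCt, ht, hCz⟩ := hT.exists_gen hodd
  have he := hT.even hodd
  have hq1 := GLOrder.one_lt_card_field (F := F)
  obtain ⟨hcx, -, hcardN, -, -⟩ := GLOrder.torus_structure h2 hT.hd0 he (by omega) ht hCz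
  rw [← hCt] at hcx hcardN
  set q := Fintype.card F with hqd
  -- the decomposition
  let Z := Finset.univ.filter (fun y : SL(2, F) => y ∈ Subgroup.center SL(2, F))
  let EC := Finset.univ.filter (fun y : SL(2, F) => PSL2.tr y ^ 2 ≠ 4 ∧ ∀ l : F, l ^ 2 - PSL2.tr y * l + 1 ≠ 0)
  let ET := Finset.univ.filter (fun y : SL(2, F) => PSL2.tr y ^ 2 ≠ 4 ∧ ∃ l : F, l ^ 2 - PSL2.tr y * l + 1 = 0)
  let Up := Finset.univ.filter (fun y : SL(2, F) => PSL2.tr y = 2 ∧ y ∉ Subgroup.center SL(2, F))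
  let Um := Finset.univ.filter (fun y : SL(2, F) => PSL2.tr y = -2 ∧ y ∉ Subgroup.center SL(2, F))
  have hsplit : ∑ g, f g = ∑ y ∈ Z, f y + ∑ y ∈ Up, f y + ∑ y ∈ Um, f y + ∑ y ∈ ET, f y + ∑ y ∈ EC, f y := by
    simp only [Z, Up, Um, ET, EC, Finset.sum_filter, ← Finset.sum_add_distrib]
    refine Finset.sum_congr rfl fun y _ => ?_
    by_cases hc : y ∈ Subgroup.center SL(2, F)
    · simp [hc, GLOrder.tr_sq_of_mem_center hc]
    by_cases h4 : PSL2.tr y ^ 2 = 4
    · rcases sq_eq_sq_iff_eq_or_eq_neg.1 (show PSL2.tr y ^ 2 = (2 : F) ^ 2 by linear_combination h4) with h | h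
      · simp [hc, show (2 : F) ^ 2 = 4 by norm_num, h, show (2 : F) ≠ -2 from fun e => h2 (mul_left_cancel₀ h2 (by linear_combination e))]
      · simp [hc, show (2 : F) ^ 2 = 4 by norm_num, h, show (-2 : F) ≠ 2 from fun e => h2 (mul_left_cancel₀ h2 (by linear_combination -e))]
    · have hp : PSL2.tr y ≠ 2 := fun h => h4 (by rw [h]; norm_num)
      have hm : PSL2.tr y ≠ -2 := fun h => h4 (by rw [h]; norm_num)
      by_cases hl : ∃ l : F, l ^ 2 - PSL2.tr y * l + 1 = 0
      · have hl' : ¬ ∀ l : F, l ^ 2 - PSL2.tr y * l + 1 ≠ 0 := fun h => hl.elim fun l hl => h l hl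
        simp [hc, h4, hp, hm, hl, hl']
      · have hl' : ∀ l : F, l ^ 2 - PSL2.tr y * l + 1 ≠ 0 := fun l e => hl ⟨l, e⟩
        simp [hc, h4, hp, hm, hl, hl']
  have hne : (1 : SL(2, F)) ≠ -1 := fun h => h2 (by
    have := congrArg (fun g : SL(2, F) => (g : Matrix (Fin 2) (Fin 2) F) 0 0) h
    simp at this
    linear_combination this)
  have hZ : ∑ y ∈ Z, f y = f 1 + f (-1) := by
    rw [show Z = {1, -1} by ext y; simp [Z, GLOrder.center_SL2], Finset.sum_pair hne]
  have hUp : ∑ y ∈ Up, f y = ((q : ℂ) ^ 2 - 1) * A := sum_unipotent hodd hf hA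
  have hUm : ∑ y ∈ Um, f y = ((q : ℂ) ^ 2 - 1) * A' := by
    rw [← sum_unipotent hodd (f := fun y => f (-y)) (fun g h => by
      show f (-(h * g * h⁻¹)) = f (-g)
      rw [← hf (-g) h, mul_neg, neg_mul]) hA']
    refine Finset.sum_equiv (Equiv.neg _) (fun y => ?_) (fun y _ => by simp)
    simp only [Um, Finset.mem_filter, Finset.mem_univ, true_and, Equiv.neg_apply, PSL2.tr_neg]
    refine and_congr ⟨fun h => by rw [h, neg_neg], fun h => by linear_combination -h⟩ (not_congr ?_)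
    simp [GLOrder.center_SL2, neg_eq_iff_eq_neg, or_comm]
  have hSL : (Nat.card SL(2, F) : ℂ) = (q : ℂ) * ((q : ℂ) + 1) * ((q : ℂ) - 1) := by
    rw [GLOrder.card_SL_two', Nat.card_eq_fintype_card (α := F), ← hqd]
    push_cast [Nat.cast_sub (show 1 ≤ q from Fintype.card_pos)]
    ring
  have hEC : ∑ y ∈ EC, f y = (q : ℂ) * ((q : ℂ) - 1) / 2 *
      ∑ c ∈ Finset.univ.filter (fun c : C => (c : SL(2, F)) ∉ Subgroup.center SL(2, F)), f c := by
    let S := Finset.univ.filter (fun c : SL(2, F) => c ∈ C ∧ c ∉ Subgroup.center SL(2, F))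
    have h := sum_conj_ti C S (fun x hx => (Finset.mem_filter.1 hx).2.1)
      (fun x hx => hcx x (Finset.mem_filter.1 hx).2.1 (Finset.mem_filter.1 hx).2.2)
      (fun n hn x hx => by
        rw [Finset.mem_filter] at hx ⊢
        refine ⟨Finset.mem_univ _, (Subgroup.mem_normalizer_iff.1 hn x).1 hx.2.1, fun hc => hx.2.2 ?_⟩
        rw [show x = n⁻¹ * (n * x * n⁻¹) * n by group, mul_assoc, (Subgroup.mem_center_iff.1 hc n).symm,
          inv_mul_cancel_left]
        exact hc)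
      EC (fun y => ?_) hf
    · rw [hcardN, hSL] at h
      have hS : ∑ x ∈ S, f x = ∑ c ∈ Finset.univ.filter (fun c : C => (c : SL(2, F)) ∉ Subgroup.center SL(2, F)), f c := by
        refine Finset.sum_bij' (fun x hx => (⟨x, (Finset.mem_filter.1 hx).2.1⟩ : C)) (fun c _ => (c : SL(2, F))) ?_ ?_ ?_ ?_ ?_
        · intro x hx; simpa using (Finset.mem_filter.1 hx).2.2
        · intro c hc; simpa [S] using hc
        · intro x hx; rfl
        · intro c hc; rfl
        · intro x hx; rfl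
      rw [hS] at h
      rw [Nat.card_eq_fintype_card, ← hqd] at h
      push_cast at h
      have hq0 : (q : ℂ) + 1 ≠ 0 := Nat.cast_add_one_ne_zero q
      apply mul_left_cancel₀ (mul_ne_zero two_ne_zero hq0)
      linear_combination h
    · simp only [EC, S, Finset.mem_filter, Finset.mem_univ, true_and]
      constructor
      · rintro ⟨h4, hl⟩
        rcases GLOrder.exists_trace_eq h2 ht he hCz (PSL2.tr y) with ⟨l, hl'⟩ | ⟨x, hx, htr, -⟩
        · exact absurd hl' (hl l)
        · refine ⟨x, ⟨hCt ▸ hx, fun hc => h4 (htr ▸ GLOrder.tr_sq_of_mem_center hc)⟩, ?_⟩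
          exact (GLOrder.isConj_of_trace_odd h2 htr.symm h4).symm
      · rintro ⟨x, ⟨hx, hxc⟩, hcj⟩
        obtain ⟨k, rfl⟩ := isConj_iff.1 hcj
        rw [PSL2.tr_conj]
        exact ⟨hT.tr_sq_ne hodd hx hxc, hT.no_root hodd hx hxc⟩
  have hET : ∑ y ∈ ET, f y = (q : ℂ) * ((q : ℂ) + 1) / 2 *
      ∑ a ∈ Finset.univ.filter (fun a : Fˣ => a ^ 2 ≠ 1), f (dg a) := by
    have hmem : ∀ y, y ∈ ET ↔ ∃ x ∈ (Finset.univ.filter (fun a : Fˣ => a ^ 2 ≠ 1)).image dg, IsConj x y := by
      intro y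
      simp only [ET, Finset.mem_filter, Finset.mem_univ, true_and, Finset.mem_image]
      constructor
      · rintro ⟨h4, l, hl⟩
        have hl0 : l ≠ 0 := by rintro rfl; simp at hl
        have htr : PSL2.tr (dg (Units.mk0 l hl0)) = PSL2.tr y := by
          rw [tr_dg, Units.val_mk0]
          field_simp
          linear_combination hl
        refine ⟨_, ⟨Units.mk0 l hl0, fun ha => h4 ?_, rfl⟩, GLOrder.isConj_of_trace_odd h2 htr (htr ▸ h4)⟩
        rw [← htr]
        exact GLOrder.tr_sq_of_mem_center ((dg_mem_center_iff _).2 ha)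
      · rintro ⟨x, ⟨a, ha, rfl⟩, hcj⟩
        obtain ⟨k, rfl⟩ := isConj_iff.1 hcj
        rw [PSL2.tr_conj]
        refine ⟨tr_sq_dg ha, (a : F), ?_⟩
        rw [tr_dg]
        field_simp
        ring
    by_cases h3 : 3 < q
    · have h := sum_conj_ti (GLOrder.diagS F).range _
        (fun x hx => by
          obtain ⟨a, -, rfl⟩ := Finset.mem_image.1 hx
          exact ⟨a, rfl⟩)
        (fun x hx => by
          obtain ⟨a, ha, rfl⟩ := Finset.mem_image.1 hx
          exact centralizer_dg (Finset.mem_filter.1 ha).2)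
        (fun n hn x hx => by
          obtain ⟨a, ha, rfl⟩ := Finset.mem_image.1 hx
          obtain ⟨b, hb⟩ := (Subgroup.mem_normalizer_iff.1 hn _).1 ⟨a, rfl⟩
          refine Finset.mem_image.2 ⟨b, Finset.mem_filter.2 ⟨Finset.mem_univ _, fun hb2 => tr_sq_dg (Finset.mem_filter.1 ha).2 ?_⟩, hb⟩
          rw [← PSL2.tr_conj (dg a) n, ← hb]
          exact GLOrder.tr_sq_of_mem_center ((dg_mem_center_iff _).2 hb2))
        ET hmem hf
      rw [card_normalizer_diag hodd h3, hSL, ← hqd, Finset.sum_image fun a _ b _ e => GLOrder.diagS_injective e] at h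
      push_cast [Nat.cast_sub (show 1 ≤ q from Fintype.card_pos)] at h
      have hq0 : (q : ℂ) - 1 ≠ 0 := sub_ne_zero.2 (by exact_mod_cast (by omega : q ≠ 1))
      apply mul_left_cancel₀ (mul_ne_zero two_ne_zero hq0)
      linear_combination h
    · -- `q = 3`: there are no regular split elements
      have hS : Finset.univ.filter (fun a : Fˣ => a ^ 2 ≠ 1) = ∅ := by
        refine Finset.filter_false_of_mem fun a _ => not_not.2 ?_
        have hq : q = 3 := by obtain ⟨m, hm⟩ := hodd; rw [Nat.card_eq_fintype_card] at hq1; omega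
        have := pow_card_eq_one' (x := a)
        rwa [GLOrder.card_units, Nat.card_eq_fintype_card, ← hqd, hq] at this
      rw [hS, Finset.sum_empty, mul_zero]
      refine Finset.sum_eq_zero fun y hy => ?_
      obtain ⟨x, hx, -⟩ := (hmem y).1 hy
      rw [hS] at hx
      simp at hx
  rw [hsplit, hZ, hUp, hUm, hET, hEC]
  ring

end Cfsg.Agent.SL2Cusp
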