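/-
The irreducible characters of `SL_2(q)`, `q` odd, with the half characters as conjugate pairs.

Main results (namespace `Cfsg.Agent.SL2Cusp`):
* `kinds` : the six kinds
* `half_apply_semisimple` : the two halves agree on semisimple elements
* `res_cusp_values` : values of a restricted cuspidal character
-/
import Cfsg.Agent.Lib.SL2Cusp.Sum

set_option autoImplicit false
set_option linter.unusedSectionVars false

namespace Cfsg.Agent.SL2Cusp

open Matrix Cfsg GLTwoChar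
open scoped MatrixGroups

variable {F : Type*} [Field F]

/-- The outer conjugation. -/
noncomputable def outer {e : F} (he : e ≠ 0) : SL(2, F) ≃* SL(2, F) := conjSL (dx he)

theorem tr_outer {e : F} (he : e ≠ 0) (g : SL(2, F)) : PSL2.tr (outer he g) = PSL2.tr g := by
  rw [PSL2.tr_eq_trace, PSL2.tr_eq_trace]
  show ((((dx he)⁻¹ * SpecialLinearGroup.toGL g * dx he : GL (Fin 2) F)) : Matrix (Fin 2) (Fin 2) F).trace = _
  rw [Units.val_mul, Units.val_mul, Matrix.trace_units_conj']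
  rfl

theorem scal_neg_one_toGL (g : SL(2, F)) :
    SpecialLinearGroup.toGL (-g) = scal F (-1) * SpecialLinearGroup.toGL g := by
  refine Units.ext ?_
  rw [Units.val_mul, coe_scal]
  show ((-g : SL(2, F)) : Matrix (Fin 2) (Fin 2) F) = _
  simp

variable [Fintype F] [DecidableEq F]

/-- `φ` splits into two conjugate irreducible halves. -/
def Splits {e : F} (he : e ≠ 0) (φ : SL(2, F) → ℂ) (θ : SL(2, F) → ℂ) : Prop :=
  IsIrrCharacter SL(2, F) θ ∧ IsIrrCharacter SL(2, F) (fun h => θ (outer he h)) ∧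
    (fun h => θ (outer he h)) ≠ θ ∧ φ = θ + fun h => θ (outer he h)

theorem kinds {e : F} (he : ¬ IsSquare e) {χ : SL(2, F) → ℂ} (hχ : IsIrrCharacter SL(2, F) χ) :
    χ = 1 ∨ χ = stS F ∨ (∃ γ, γ ^ 2 ≠ 1 ∧ χ = psS γ) ∨
      (∃ γ θ, γ ≠ 1 ∧ γ ^ 2 = 1 ∧ Splits (ne_zero_of_nonsquare he) (psS γ) θ ∧
        (χ = θ ∨ χ = fun h => θ (outer (ne_zero_of_nonsquare he) h))) ∨
      (∃ ψ, IsIrrCharacter (GL (Fin 2) F) ψ ∧ (glDatum F).Cusp ψ ∧ res ψ = χ) ∨
      (∃ ψ θ, IsIrrCharacter (GL (Fin 2) F) ψ ∧ (glDatum F).Cusp ψ ∧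
        Splits (ne_zero_of_nonsquare he) (res ψ) θ ∧
        (χ = θ ∨ χ = fun h => θ (outer (ne_zero_of_nonsquare he) h))) := by
  obtain ⟨ψ, hψ, hne⟩ := exists_over hχ
  rcases gl_cases hψ with ⟨α, rfl⟩ | ⟨α, rfl⟩ | ⟨α, β, hab, rfl⟩ | hc
  · left
    rw [res_lam] at hne
    exact eq_of_classInner_ne_zero Char.isIrrCharacter_one hχ hne
  · right; left
    rw [res_st] at hne
    exact eq_of_classInner_ne_zero stS_irr hχ hne
  · right; right
    rw [res_ps] at hne
    by_cases hγ : (α * β⁻¹) ^ 2 = 1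
    · right; left
      rcases res_cases he hψ with hirr | ⟨θ, h1, h2, h3, h4⟩
      · exact absurd hγ ((psS_irr_iff _).1 (res_ps α β ▸ hirr))
      · rw [res_ps] at h4
        exact ⟨_, θ, fun h => hab (mul_inv_eq_one.1 h), hγ, ⟨h1, h2, h3, h4⟩,
          eq_or_eq_of_constituent hχ h1 h2 h4 hne⟩
    · left
      exact ⟨_, hγ, eq_of_classInner_ne_zero ((psS_irr_iff _).2 hγ) hχ hne⟩
  · right; right; right; right
    rcases res_cases he hψ with hirr | ⟨θ, h1, h2, h3, h4⟩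
    · exact Or.inl ⟨ψ, hψ, hc, (eq_of_classInner_ne_zero hirr hχ hne).symm⟩
    · exact Or.inr ⟨ψ, θ, hψ, hc, ⟨h1, h2, h3, h4⟩, eq_or_eq_of_constituent hχ h1 h2 h4 hne⟩

theorem half_apply_semisimple (hodd : Odd (Fintype.card F)) {e : F} {he : e ≠ 0} {φ θ χ : SL(2, F) → ℂ}
    (h : Splits he φ θ) (hχ : χ = θ ∨ χ = fun h => θ (outer he h)) {g : SL(2, F)} (h4 : PSL2.tr g ^ 2 ≠ 4) :
    2 * χ g = φ g := by
  obtain ⟨h1, -, -, h5⟩ := h
  obtain ⟨k, hk⟩ := isConj_iff.1 (GLOrder.isConj_of_trace_odd (two_ne_zero_of_odd hodd) (tr_outer he g).symm h4)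
  have hθ : θ (outer he g) = θ g := by rw [← hk, Char.IsIrrCharacter.isClassFunction h1]
  have : φ g = θ g + θ g := by rw [h5, Pi.add_apply, hθ]
  rcases hχ with rfl | rfl
  · rw [this]; ring
  · simp only [hθ, this]; ring

theorem half_one {e : F} {he : e ≠ 0} {φ θ χ : SL(2, F) → ℂ} (h : Splits he φ θ)
    (hχ : χ = θ ∨ χ = fun h => θ (outer he h)) : 2 * χ 1 = φ 1 := by
  obtain ⟨-, -, -, h5⟩ := h
  rw [h5, Pi.add_apply]
  rcases hχ with rfl | rfl <;> simp only [map_one] <;> ring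

theorem res_cusp_one {ψ : GL (Fin 2) F → ℂ} (hψ : IsIrrCharacter (GL (Fin 2) F) ψ) (hc : (glDatum F).Cusp ψ) :
    res ψ 1 = (Fintype.card F : ℂ) - 1 := by
  rw [res, map_one, (gl_cusp hψ hc).1]

theorem uSL_eq_u (b : F) : uSL b = (slDatum F).u b := by
  refine Subtype.ext ?_
  rw [coe_uSL]
  exact ((slDatum F).M_u b).symm

theorem res_cusp_u {ψ : GL (Fin 2) F → ℂ} (hψ : IsIrrCharacter (GL (Fin 2) F) ψ) (hc : (glDatum F).Cusp ψ)
    {b : F} (hb : b ≠ 0) : res ψ (uSL b) = -1 := by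
  rw [uSL_eq_u, res, toGL_u, cusp_u_const (Char.IsIrrCharacter.isClassFunction hψ) hb, (gl_cusp hψ hc).2]

theorem mul_of_central {G : Type*} [Group G] {χ : G → ℂ} (hχ : IsIrrCharacter G χ) {z : G}
    (hz : z ∈ Subgroup.center G) : ∃ c : ℂ, ∀ g, χ (z * g) = c * χ g := by
  obtain ⟨n, ρ, hi, rfl⟩ := hχ
  haveI := hi
  obtain ⟨c, hc⟩ := CharApp.exists_scalar_of_mem_center ρ hz
  refine ⟨c, fun g => ?_⟩
  rw [Representation.character, map_mul, hc, smul_mul_assoc, one_mul, map_smul, smul_eq_mul]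
  rfl

theorem neg_apply {χ : SL(2, F) → ℂ} (hχ : IsIrrCharacter SL(2, F) χ) :
    ∃ c : ℂ, c * c = 1 ∧ ∀ g, χ (-g) = c * χ g := by
  obtain ⟨c, hc⟩ := mul_of_central hχ (GLOrder.center_SL2.2 (Or.inr (rfl : (-1 : SL(2, F)) = -1)))
  simp only [neg_one_mul] at hc
  refine ⟨c, ?_, hc⟩
  have h1 := hc (-1)
  rw [neg_neg, hc 1, ← mul_assoc] at h1
  exact mul_right_cancel₀ (Char.IsIrrCharacter.apply_one_ne_zero hχ) (h1.symm.trans (one_mul _).symm)

theorem res_neg_apply {ψ : GL (Fin 2) F → ℂ} (hψ : IsIrrCharacter (GL (Fin 2) F) ψ) :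
    ∃ c : ℂ, ∀ g : SL(2, F), res ψ (-g) = c * res ψ g := by
  obtain ⟨c, hc⟩ := mul_of_central hψ (scal_central (-1))
  exact ⟨c, fun g => by rw [res, res, scal_neg_one_toGL, hc]⟩

theorem res_cusp_diag {ψ : GL (Fin 2) F → ℂ} (hψ : IsIrrCharacter (GL (Fin 2) F) ψ) (hc : (glDatum F).Cusp ψ)
    {a : Fˣ} (ha : a ^ 2 ≠ 1) : res ψ (dg a) = 0 := by
  classical
  exact (slDatum F).cusp_apply_borel (cusp_res hc) (res_isCharacter (Char.IsIrrCharacter.isCharacter hψ))
    ⟨dg a, (slDatum F).mem_B.2 rfl⟩ (fun h => ha ((S2437.sq_ne_iff a).2 (by simpa [Datum.M, slDatum, dg, GLOrder.diagS_apply] using h)))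

theorem psS_u (γ : MulChar F ℂ) {b : F} (hb : b ≠ 0) : psS γ (uSL b) = 1 := by
  classical
  rw [uSL_eq_u]
  have h := (slDatum F).indFun_unip ((slDatum F).isT_theta γ 1) ⟨(slDatum F).u b, (slDatum F).u_mem b⟩
    (by simp [Datum.M_u]) (by simpa [Datum.M_u] using hb)
  rw [psS, show indFun (slDatum F).B ⇑((slDatum F).theta γ 1) ((slDatum F).u b) = _ from h]
  exact (slDatum F).isT_theta γ 1 _ (by simp [Datum.M_u]) (by simp [Datum.M_u])

theorem psS_dg (γ : MulChar F ℂ) {a : Fˣ} (ha : a ^ 2 ≠ 1) :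
    psS γ (dg a) = γ (a : F) + γ ((a : F)⁻¹) := by
  classical
  have hM : (slDatum F).M (dg a) = !![(a : F), 0; 0, (a : F)⁻¹] := by
    simp [Datum.M, slDatum, dg, GLOrder.diagS_apply]
  have h := (slDatum F).indFun_regular ((slDatum F).isT_theta γ 1) ⟨dg a, (slDatum F).mem_B.2 (by simp [hM])⟩
    (by rw [hM]; simpa using fun h => ha ((S2437.sq_ne_iff a).2 h))
  rw [psS, show indFun (slDatum F).B ⇑((slDatum F).theta γ 1) (dg a) = _ from h, tw_sTheta, sTheta_apply,
    sTheta_apply, hM]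
  simp [MulChar.inv_apply']

theorem psS_ell (γ : MulChar F ℂ) {g : SL(2, F)} (hg : (slDatum F).IsEll g) : psS γ g = 0 := by
  classical
  exact (slDatum F).indFun_ell _ hg

theorem psS_neg (γ : MulChar F ℂ) (g : SL(2, F)) : psS γ (-g) = γ (-1) * psS γ g := by
  classical
  rw [psS, (slDatum F).indFun_apply, (slDatum F).indFun_apply, mul_add, Finset.mul_sum]
  have key : ∀ y : SL(2, F), extendByZero (slDatum F).B ⇑((slDatum F).theta γ 1) (-y) =
      γ (-1) * extendByZero (slDatum F).B ⇑((slDatum F).theta γ 1) y := by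
    intro y
    have hiff : -y ∈ (slDatum F).B ↔ y ∈ (slDatum F).B := by
      rw [Datum.mem_B, Datum.mem_B]; simp [Datum.M, slDatum]
    by_cases hy : y ∈ (slDatum F).B
    · rw [Char.extendByZero_mem _ _ hy, Char.extendByZero_mem _ _ (hiff.2 hy), sTheta_apply, sTheta_apply, ← map_mul]
      congr 1
      simp [Datum.M, slDatum]
    · rw [Char.extendByZero_not_mem _ _ hy, Char.extendByZero_not_mem _ _ (mt hiff.1 hy), mul_zero]
  rw [key]
  refine congrArg₂ _ rfl (Finset.sum_congr rfl fun c _ => ?_)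
  rw [mul_neg, neg_mul, key]

theorem quad_apply {γ : MulChar F ℂ} (h1 : γ ≠ 1) (hγ : γ ^ 2 = 1) {a : F} (ha : a ≠ 0) :
    γ a = if IsSquare a then 1 else -1 := by
  have hsq : ∀ b : F, b ≠ 0 → γ (b * b) = 1 := by
    intro b hb
    have h := DFunLike.congr_fun hγ b
    rw [sq, MulChar.mul_apply, MulChar.one_apply (isUnit_iff_ne_zero.2 hb)] at h
    rw [map_mul, h]
  split_ifs with h
  · obtain ⟨b, rfl⟩ := h
    exact hsq b (left_ne_zero_of_mul ha)
  · have hh : γ a * γ a = 1 := by rw [← map_mul, hsq a ha]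
    rcases mul_self_eq_one_iff.1 hh with hv | hv
    · exfalso
      apply h1
      refine MulChar.ext fun x => ?_
      rw [MulChar.one_apply x.isUnit]
      have hcr : ringChar F ≠ 2 := fun hc => h (FiniteField.isSquare_of_char_two hc a)
      by_cases hx : IsSquare (x : F)
      · obtain ⟨b, hb⟩ := hx
        rw [hb, hsq b (left_ne_zero_of_mul (hb ▸ x.ne_zero))]
      · have hd := FiniteField.pow_dichotomy hcr ha
        have hd' := FiniteField.pow_dichotomy hcr x.ne_zero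
        obtain ⟨b, hb⟩ : IsSquare ((x : F) * a) := by
          rw [FiniteField.isSquare_iff hcr (mul_ne_zero x.ne_zero ha), mul_pow,
            hd.resolve_left fun h' => h ((FiniteField.isSquare_iff hcr ha).2 h'),
            hd'.resolve_left fun h' => hx ((FiniteField.isSquare_iff hcr x.ne_zero).2 h'), neg_one_mul, neg_neg]
        have := hsq b (left_ne_zero_of_mul (hb ▸ mul_ne_zero x.ne_zero ha))
        rwa [← hb, map_mul, hv, mul_one] at this
    · exact hv

end Cfsg.Agent.SL2Cusp
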