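/-
The cuspidal characters of degree `q - 1` of `SL_2(q)`, `q` odd.

Main results (namespace `Cfsg.Agent.SL2Cusp`):
* `CuspVals` : the common values off the non-split torus
* `inner_cuspVals` : their inner product
* `exists_disc` : the character `π_θ`
* `cusp_dichotomy` : a function orthogonal to all `π_θ` is `-2 sgn` on the torus
-/
import Cfsg.Agent.Lib.SL2Cusp.Kinds
import Cfsg.Agent.Lib.Char.Virtual

set_option autoImplicit false
set_option linter.unusedSectionVars false
set_option linter.style.haveILetI false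

namespace Cfsg.Agent.SL2Cusp

open Matrix Cfsg GLTwoChar
open scoped MatrixGroups ComplexConjugate

variable {F : Type*} [Field F] [Fintype F] [DecidableEq F] {C : Subgroup SL(2, F)}

/-- Values off the non-split torus of a cuspidal class function of degree `q - 1`. -/
structure CuspVals (φ : SL(2, F) → ℂ) (ε : ℂ) : Prop where
  cls : IsClassFunction SL(2, F) φ
  sign : ε = 1 ∨ ε = -1
  one : φ 1 = (Fintype.card F : ℂ) - 1
  negOne : φ (-1) = ε * ((Fintype.card F : ℂ) - 1)
  unip : ∀ b : F, b ≠ 0 → φ (uSL b) = -1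
  negUnip : ∀ b : F, b ≠ 0 → φ (-uSL b) = -ε
  diag : ∀ a : Fˣ, a ^ 2 ≠ 1 → φ (dg a) = 0

open Classical in
theorem inner_cuspVals (hodd : Odd (Fintype.card F)) (hT : IsTorus C) {φ φ' : SL(2, F) → ℂ} {ε ε' : ℂ}
    (h : CuspVals φ ε) (h' : CuspVals φ' ε') :
    2 * ((Fintype.card F : ℂ) + 1) * classInner φ φ' = 4 * (1 + ε * ε') +
      ∑ c ∈ Finset.univ.filter (fun c : C => (c : SL(2, F)) ∉ Subgroup.center SL(2, F)), φ c * conj (φ' c) := by
  have hconj : conj ε' = ε' := by rcases h'.sign with h | h <;> simp [h]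
  have hsum := Char.card_mul_classInner φ φ'
  rw [sum_SL2 hodd hT (f := fun g => φ g * conj (φ' g))
    (fun g k => by show φ _ * conj (φ' _) = _; rw [h.cls, h'.cls]) (A := 1) (A' := ε * ε')
    (fun b hb => by simp [h.unip b hb, h'.unip b hb])
    (fun b hb => by simp [h.negUnip b hb, h'.negUnip b hb, hconj]),
    Finset.sum_eq_zero (s := Finset.univ.filter fun a : Fˣ => a ^ 2 ≠ 1)
      (fun a ha => by rw [h.diag a (Finset.mem_filter.1 ha).2, zero_mul]),
    h.one, h'.one, h.negOne, h'.negOne, GLOrder.card_SL_two', Nat.card_eq_fintype_card (α := F)] at hsum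
  have hq := Fintype.one_lt_card (α := F)
  push_cast [Nat.cast_sub (show 1 ≤ Fintype.card F by omega)] at hsum
  simp only [map_mul, map_sub, map_one, map_natCast, hconj] at hsum
  have hne : (Fintype.card F : ℂ) * ((Fintype.card F : ℂ) - 1) ≠ 0 :=
    mul_ne_zero (Nat.cast_ne_zero.2 Fintype.card_ne_zero)
      (sub_ne_zero.2 (by exact_mod_cast (by omega : Fintype.card F ≠ 1)))
  apply mul_left_cancel₀ hne
  linear_combination 2 * hsum

/-- `θ` on `C` as a function to `ℂ`. -/
def th (θ : C →* ℂˣ) : C →* ℂ := (Units.coeHom ℂ).comp θ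

theorem th_apply (θ : C →* ℂˣ) (c : C) : th θ c = (θ c).val := rfl

theorem th_ne_zero (θ : C →* ℂˣ) (c : C) : th θ c ≠ 0 := (θ c).ne_zero

theorem th_inv (θ : C →* ℂˣ) (c : C) : th θ c⁻¹ = (th θ c)⁻¹ := by
  rw [th_apply, th_apply, map_inv, Units.val_inv_eq_inv_val]

theorem norm_th (θ : C →* ℂˣ) (c : C) : ‖th θ c‖ = 1 := by
  refine Complex.norm_eq_one_of_pow_eq_one (n := Nat.card C) ?_ Nat.card_pos.ne'
  rw [← map_pow, pow_card_eq_one', map_one]

theorem conj_th (θ : C →* ℂˣ) (c : C) : conj (th θ c) = (th θ c)⁻¹ :=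
  (Complex.inv_eq_conj (norm_th θ c)).symm

/-- `-1` in the torus. -/
def negC (hT : IsTorus C) (hodd : Odd (Fintype.card F)) : C := ⟨-1, hT.neg_one_mem hodd⟩

theorem coe_negC (hT : IsTorus C) (hodd : Odd (Fintype.card F)) : (negC hT hodd : SL(2, F)) = -1 := rfl

theorem th_negC_sign (hT : IsTorus C) (hodd : Odd (Fintype.card F)) (θ : C →* ℂˣ) :
    th θ (negC hT hodd) = 1 ∨ th θ (negC hT hodd) = -1 := by
  refine mul_self_eq_one_iff.1 ?_
  rw [← map_mul, show negC hT hodd * negC hT hodd = 1 from Subtype.ext (by simp [negC]), map_one]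

theorem not_mem_center_iff (c : SL(2, F)) : c ∈ Subgroup.center SL(2, F) ↔ c = 1 ∨ c = -1 := GLOrder.center_SL2

theorem one_ne_neg_one (hodd : Odd (Fintype.card F)) : (1 : SL(2, F)) ≠ -1 := fun h =>
  two_ne_zero_of_odd hodd (by
    have := congrArg (fun g : SL(2, F) => (g : Matrix (Fin 2) (Fin 2) F) 0 0) h
    simp at this
    linear_combination this)

open Classical in
theorem sum_noncentral (hT : IsTorus C) (hodd : Odd (Fintype.card F)) (f : C → ℂ) :
    ∑ c ∈ Finset.univ.filter (fun c : C => (c : SL(2, F)) ∉ Subgroup.center SL(2, F)), f c =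
      (∑ c, f c) - f 1 - f (negC hT hodd) := by
  rw [← Finset.sum_filter_add_sum_filter_not Finset.univ
    (fun c : C => (c : SL(2, F)) ∉ Subgroup.center SL(2, F)) f]
  have : Finset.univ.filter (fun c : C => ¬ (c : SL(2, F)) ∉ Subgroup.center SL(2, F)) = {1, negC hT hodd} := by
    ext c
    rw [Finset.mem_filter, Finset.mem_insert, Finset.mem_singleton, not_not, not_mem_center_iff,
      Subtype.ext_iff, Subtype.ext_iff (a1 := c) (a2 := negC hT hodd), coe_negC, OneMemClass.coe_one]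
    exact and_iff_right (Finset.mem_univ c)
  rw [this, Finset.sum_pair (fun h => one_ne_neg_one hodd (congrArg Subtype.val h))]
  ring

/-- The sign character. -/
noncomputable def sgn (hT : IsTorus C) (hodd : Odd (Fintype.card F)) : C →* ℂˣ where
  toFun c := if (c : SL(2, F)) ^ ((Fintype.card F + 1) / 2) = 1 then 1 else -1
  map_one' := by simp
  map_mul' a b := by
    have h2 := two_ne_zero_of_odd hodd
    have hcase : ∀ c : C, (c : SL(2, F)) ^ ((Fintype.card F + 1) / 2) = 1 ∨
        (c : SL(2, F)) ^ ((Fintype.card F + 1) / 2) = -1 := fun c => by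
      refine GLOrder.eq_one_or_neg_one_of_sq h2 ?_
      rw [← pow_add]
      obtain ⟨m, hm⟩ := hodd
      rw [show (Fintype.card F + 1) / 2 + (Fintype.card F + 1) / 2 = Fintype.card F + 1 by omega,
        ← Nat.card_eq_fintype_card]
      exact hT.pow_eq_one c.2
    have hab : Commute (a : SL(2, F)) (b : SL(2, F)) := by
      haveI := hT.cyc
      exact congrArg Subtype.val (IsCyclic.commGroup.mul_comm a b)
    have hne := one_ne_neg_one (F := F) hodd
    rw [Subgroup.coe_mul, hab.mul_pow]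
    rcases hcase a with ha | ha <;> rcases hcase b with hb | hb <;> rw [ha, hb] <;>
      simp only [one_mul, mul_one, neg_mul_neg, if_true, if_neg hne.symm]

theorem th_sgn (hT : IsTorus C) (hodd : Odd (Fintype.card F)) (c : C) :
    th (sgn hT hodd) c = if (c : SL(2, F)) ^ ((Fintype.card F + 1) / 2) = 1 then 1 else -1 := by
  rw [th_apply]
  show ((if (c : SL(2, F)) ^ ((Fintype.card F + 1) / 2) = 1 then (1 : ℂˣ) else -1 : ℂˣ) : ℂ) = _
  split_ifs <;> simp

theorem eq_one_or_eq_sgn (hT : IsTorus C) (hodd : Odd (Fintype.card F)) (θ : C →* ℂˣ)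
    (h : ∀ c, θ c ^ 2 = 1) : θ = 1 ∨ θ = sgn hT hodd := by
  obtain ⟨t, hCt, ht, -⟩ := hT.exists_gen hodd
  let tc : C := ⟨t, by rw [hCt]; exact Subgroup.mem_zpowers t⟩
  have hgen : ∀ θ' : C →* ℂˣ, θ tc = θ' tc → θ = θ' := by
    intro θ' he
    refine MonoidHom.ext fun c => ?_
    obtain ⟨i, hi⟩ := Subgroup.mem_zpowers_iff.1 (hCt ▸ c.2 : (c : SL(2, F)) ∈ Subgroup.zpowers t)
    rw [show c = tc ^ i from Subtype.ext (hi.symm.trans (by simp [tc])), map_zpow, map_zpow, he]
  have hv : ((θ tc : ℂˣ) : ℂ) = 1 ∨ ((θ tc : ℂˣ) : ℂ) = -1 := by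
    refine mul_self_eq_one_iff.1 ?_
    rw [← Units.val_mul, ← pow_two, h, Units.val_one]
  rcases hv with hv | hv
  · exact Or.inl (hgen 1 (Units.ext hv))
  · refine Or.inr (hgen _ (Units.ext ?_))
    rw [hv, ← th_apply, th_sgn, if_neg]
    intro he
    have := Nat.le_of_dvd (by have := Fintype.one_lt_card (α := F); omega) (orderOf_dvd_of_pow_eq_one he)
    change orderOf t ≤ _ at this
    rw [ht, Nat.card_eq_fintype_card] at this
    have := Fintype.one_lt_card (α := F)
    omega

theorem sum_th_eq_zero (θ : C →* ℂˣ) (h : θ ≠ 1) [Fintype C] : ∑ c, th θ c = 0 := by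
  refine sum_hom_units_eq_zero _ fun he => h (MonoidHom.ext fun c => Units.ext ?_)
  rw [← th_apply, he]; rfl

open Classical in
theorem eq_zero_of_fourier (hT : IsTorus C) (g : C → ℂ)
    (h : ∀ θ : C →* ℂˣ, ∑ c, g c * conj (th θ c) = 0) : g = 0 := by
  haveI := hT.cyc
  have hcomm : ∀ a b : C, a * b = b * a := IsCyclic.commGroup.mul_comm
  refine Char.eq_zero_of_forall_classInner_irr (fun x y => by rw [hcomm y x, mul_inv_cancel_right]) fun χ => ?_
  obtain ⟨l, hl⟩ := Char.exists_hom_of_degree_one (Char.IsIrrCharacter.isCharacter χ.2)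
    (Char.apply_one_eq_one_of_comm hcomm χ)
  rw [classInner]
  refine mul_eq_zero_of_right _ (Eq.trans ?_ (h l.toHomUnits))
  refine Finset.sum_congr rfl fun c _ => ?_
  rw [← hl]
  rfl

section Induced

theorem extend_conj_of_no_conj {g : SL(2, F)} (θ : C → ℂ) (h : ∀ x : SL(2, F), x⁻¹ * g * x ∉ C) :
    indFun C θ g = 0 := by
  rw [indFun, Finset.sum_eq_zero fun x _ => Char.extendByZero_not_mem C θ (h x), mul_zero]

theorem indFun_center (θ : C → ℂ) {z : C} (hz : (z : SL(2, F)) ∈ Subgroup.center SL(2, F)) :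
    indFun C θ z = (Nat.card C : ℂ)⁻¹ * (Nat.card SL(2, F) : ℂ) * θ z := by
  rw [indFun, Finset.sum_congr rfl (fun x _ => by
    rw [mul_assoc, ← Subgroup.mem_center_iff.1 hz x, inv_mul_cancel_left, Char.extendByZero_coe]),
    Finset.sum_const, Finset.card_univ, nsmul_eq_mul, Nat.card_eq_fintype_card (α := SL(2, F)), mul_assoc]

open Classical in
theorem indFun_torus (hT : IsTorus C) (hodd : Odd (Fintype.card F)) (θ : C → ℂ) {c : C}
    (hc : (c : SL(2, F)) ∉ Subgroup.center SL(2, F)) : indFun C θ c = θ c + θ c⁻¹ := by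
  have h2 := two_ne_zero_of_odd hodd
  obtain ⟨t, hCt, ht, hCz⟩ := hT.exists_gen hodd
  have he := hT.even hodd
  have hq1 := GLOrder.one_lt_card_field (F := F)
  obtain ⟨hcx, -, hcardN, -, hsq⟩ := GLOrder.torus_structure h2 hT.hd0 he (by omega) ht hCz
  rw [← hCt] at hcx hcardN hsq
  set N := Subgroup.normalizer (C : Set SL(2, F)) with hN
  have hcC : ∀ x : SL(2, F), (x⁻¹ * (c : SL(2, F)) * x ∈ C) → x ∈ N := by
    intro x hx
    set d := x⁻¹ * (c : SL(2, F)) * x with hd
    have hdc : d ∉ Subgroup.center SL(2, F) := fun h => hc (by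
      rw [show (c : SL(2, F)) = x * d * x⁻¹ by rw [hd]; group, Subgroup.mem_center_iff.1 h x, mul_inv_cancel_right]
      exact h)
    have e1 := hcx c c.2 hc
    have e2 := hcx d hx hdc
    rw [hN, Subgroup.mem_normalizer_iff]
    intro z
    constructor
    · intro hz
      rw [← e2, Subgroup.mem_centralizer_singleton_iff] at hz
      rw [← e1, Subgroup.mem_centralizer_singleton_iff, show (c : SL(2, F)) = x * d * x⁻¹ by rw [hd]; group]
      calc x * z * x⁻¹ * (x * d * x⁻¹) = x * (z * d) * x⁻¹ := by group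
        _ = _ := by rw [hz]; group
    · intro hz
      rw [← e1, Subgroup.mem_centralizer_singleton_iff] at hz
      rw [← e2, Subgroup.mem_centralizer_singleton_iff, hd]
      calc z * (x⁻¹ * c * x) = x⁻¹ * (x * z * x⁻¹ * c) * x := by group
        _ = _ := by rw [hz]; group
  have hCN : C ≤ N := Subgroup.le_normalizer
  have hinv : ∀ x ∈ N, x ∉ C → x⁻¹ * (c : SL(2, F)) * x = (c : SL(2, F))⁻¹ := by
    intro x hx hxC
    have hx' : x⁻¹ ∈ N := inv_mem hx
    have hx'C : x⁻¹ ∉ C := fun h => hxC (inv_inv x ▸ C.inv_mem h)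
    have h1 := hsq x⁻¹ hx' hx'C
    have h2' := hsq (x⁻¹ * c) (N.mul_mem hx' (hCN c.2)) fun h =>
      hx'C ((C.mul_mem_cancel_right c.2).1 h)
    rw [← h1] at h2'
    rw [eq_inv_iff_mul_eq_one]
    calc x⁻¹ * (c : SL(2, F)) * x * c = (x⁻¹ * c * (x⁻¹ * c)) * ((x⁻¹ * c)⁻¹ * x * c) := by group
      _ = x⁻¹ * x⁻¹ * ((x⁻¹ * c)⁻¹ * x * c) := by rw [h2']
      _ = x⁻¹ * (x⁻¹ * (c : SL(2, F))⁻¹ * x * x) * c := by group
      _ = 1 := by
        have h3 : (x⁻¹ * x⁻¹) * (c : SL(2, F))⁻¹ = (c : SL(2, F))⁻¹ * (x⁻¹ * x⁻¹) := by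
          rw [h1, neg_one_mul, mul_neg_one]
        calc x⁻¹ * (x⁻¹ * (c : SL(2, F))⁻¹ * x * x) * c = (x⁻¹ * x⁻¹ * (c : SL(2, F))⁻¹) * (x * x) * c := by group
          _ = 1 := by rw [h3]; group
  have hterm : ∀ x : SL(2, F), extendByZero C θ (x⁻¹ * (c : SL(2, F)) * x) =
      (if x ∈ C then θ c else 0) + (if x ∈ N ∧ x ∉ C then θ c⁻¹ else 0) := by
    intro x
    by_cases hxC : x ∈ C
    · haveI := hT.cyc
      have hcomm : Commute (c : SL(2, F)) x := congrArg Subtype.val (IsCyclic.commGroup.mul_comm c ⟨x, hxC⟩)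
      rw [if_pos hxC, if_neg fun h => h.2 hxC, mul_assoc, hcomm.eq, inv_mul_cancel_left, Char.extendByZero_coe,
        add_zero]
    · by_cases hxN : x ∈ N
      · rw [if_neg hxC, if_pos ⟨hxN, hxC⟩, hinv x hxN hxC, ← Subgroup.coe_inv, Char.extendByZero_coe, zero_add]
      · rw [if_neg hxC, if_neg fun h => hxN h.1, Char.extendByZero_not_mem C θ fun h => hxN (hcC x h), add_zero]
  have h1 : (Finset.univ.filter fun x : SL(2, F) => x ∈ C).card = Fintype.card F + 1 := by
    rw [← Fintype.card_subtype, ← Nat.card_eq_fintype_card]; exact hT.card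
  have h2c : (Finset.univ.filter fun x : SL(2, F) => x ∈ N ∧ x ∉ C).card = Fintype.card F + 1 := by
    have h3 := Finset.card_filter_add_card_filter_not (s := Finset.univ.filter fun x : SL(2, F) => x ∈ N)
      (fun x => x ∈ C)
    have h4 : (Finset.univ.filter fun x : SL(2, F) => x ∈ N).card = 2 * (Fintype.card F + 1) := by
      rw [← Fintype.card_subtype, ← Nat.card_eq_fintype_card, ← Nat.card_eq_fintype_card (α := F)]
      exact hcardN
    have h5 : Finset.univ.filter (fun x : SL(2, F) => x ∈ N ∧ x ∈ C) = Finset.univ.filter (fun x => x ∈ C) :=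
      Finset.filter_congr fun x _ => ⟨fun h => h.2, fun h => ⟨hCN h, h⟩⟩
    rw [Finset.filter_filter, Finset.filter_filter, h5, h1, h4] at h3
    omega
  rw [indFun, Finset.sum_congr rfl (fun x _ => hterm x), Finset.sum_add_distrib, ← Finset.sum_filter,
    ← Finset.sum_filter, Finset.sum_const, Finset.sum_const, h1, h2c, hT.card, nsmul_eq_mul, nsmul_eq_mul,
    ← mul_add, inv_mul_cancel_left₀ (Nat.cast_ne_zero.2 (Nat.succ_ne_zero _))]

end Induced

open Classical in
theorem exists_mulChar_neg_one {ε : ℂ} (hε : ε = 1 ∨ ε = -1) (hodd : Odd (Fintype.card F)) :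
    ∃ γ : MulChar F ℂ, γ (-1) = ε := by
  rcases hε with rfl | rfl
  · exact ⟨1, MulChar.one_apply (isUnit_one.neg)⟩
  have hu : Fintype.card F - 1 ≠ 0 := by
    have := Fintype.one_lt_card (α := F); omega
  obtain ⟨χ, hχ⟩ := MulChar.exists_mulChar_orderOf F (dvd_refl (Fintype.card F - 1))
    (Complex.isPrimitiveRoot_exp _ hu)
  refine ⟨χ, ?_⟩
  have hsq : χ (-1) * χ (-1) = 1 := by rw [← map_mul, neg_mul_neg, one_mul, map_one]
  rcases mul_self_eq_one_iff.1 hsq with h | h
  · exfalso
    obtain ⟨m, hm⟩ := hodd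
    have hpow : χ ^ m = 1 := by
      refine MulChar.ext fun x => ?_
      rw [MulChar.one_apply x.isUnit, MulChar.pow_apply_coe, ← map_pow]
      have h1 : ((x : F) ^ m) * ((x : F) ^ m) = 1 := by
        rw [← pow_add, ← two_mul, show 2 * m = Fintype.card F - 1 by omega]
        exact FiniteField.pow_card_sub_one_eq_one _ x.ne_zero
      rcases mul_self_eq_one_iff.1 h1 with h' | h'
      · rw [h', map_one]
      · rw [h', h]
    have h2 := orderOf_dvd_of_pow_eq_one hpow
    rw [hχ] at h2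
    have h3 := Nat.le_of_dvd (by omega) h2
    omega
  · exact h

theorem psS_neg_one (γ : MulChar F ℂ) : psS γ (-1) = γ (-1) * ((Fintype.card F : ℂ) + 1) := by
  rw [psS_neg, psS_one]

theorem one_apply_ne {a : F} (ha : a ≠ 0) : (1 : MulChar F ℂ) a = 1 :=
  MulChar.one_apply (isUnit_iff_ne_zero.2 ha)

theorem tr_uSL (b : F) : PSL2.tr (uSL b) = 2 := by
  simp [tr_eq, coe_uSL, one_add_one_eq_two]

theorem not_conj_mem (hT : IsTorus C) (hodd : Odd (Fintype.card F)) {g : SL(2, F)}
    (hg : g ∉ Subgroup.center SL(2, F))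
    (h : PSL2.tr g ^ 2 = 4 ∨ ∃ l : F, l ^ 2 - PSL2.tr g * l + 1 = 0) (x : SL(2, F)) : x⁻¹ * g * x ∉ C := by
  intro hx
  have htr : PSL2.tr (x⁻¹ * g * x) = PSL2.tr g := by
    have := PSL2.tr_conj g x⁻¹
    rwa [inv_inv] at this
  have hc : x⁻¹ * g * x ∉ Subgroup.center SL(2, F) := fun hc => hg (by
    rw [show g = x * (x⁻¹ * g * x) * x⁻¹ by group, Subgroup.mem_center_iff.1 hc x, mul_inv_cancel_right]
    exact hc)
  rcases h with h | ⟨l, hl⟩
  · exact hT.tr_sq_ne hodd hx hc (htr ▸ h)
  · exact hT.no_root hodd hx hc l (htr ▸ hl)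

theorem uSL_not_center {b : F} (hb : b ≠ 0) : uSL b ∉ Subgroup.center SL(2, F) :=
  fun h => not_isScalar_uSL hb ((isScalar_iff_center _).2 h)

theorem neg_not_center {g : SL(2, F)} (hg : g ∉ Subgroup.center SL(2, F)) :
    -g ∉ Subgroup.center SL(2, F) := by
  simpa [not_mem_center_iff, neg_eq_iff_eq_neg, or_comm] using hg

theorem isIntegralCoset (hT : IsTorus C) :
    (Nat.card C : ℂ)⁻¹ * (Nat.card SL(2, F) : ℂ) = (Fintype.card F : ℂ) * ((Fintype.card F : ℂ) - 1) := by
  rw [hT.card, GLOrder.card_SL_two', Nat.card_eq_fintype_card (α := F)]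
  push_cast [Nat.cast_sub (show 1 ≤ Fintype.card F from Fintype.card_pos)]
  field_simp [Nat.cast_add_one_ne_zero]

open Classical in
/-- The virtual character `π_θ`. -/
theorem exists_virtual (hT : IsTorus C) (hodd : Odd (Fintype.card F)) (θ : C →* ℂˣ) :
    ∃ π : SL(2, F) → ℂ, IsGeneralizedCharacter SL(2, F) π ∧ CuspVals π (th θ (negC hT hodd)) ∧
      ∀ c : C, (c : SL(2, F)) ∉ Subgroup.center SL(2, F) → π c = -(th θ c + (th θ c)⁻¹) := by
  set ε := th θ (negC hT hodd) with hε
  have hs := th_negC_sign hT hodd θ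
  obtain ⟨γ, hγ⟩ := exists_mulChar_neg_one hs hodd
  refine ⟨stS F * psS γ - psS γ - indFun C (th θ), ?_, ⟨?_, hs, ?_, ?_, ?_, ?_, ?_⟩, ?_⟩
  · exact Char.IsGeneralizedCharacter.sub (Char.IsGeneralizedCharacter.sub (Char.IsGeneralizedCharacter.mul
      (Char.isGeneralizedCharacter_of_isCharacter (Char.IsIrrCharacter.isCharacter stS_irr))
      (Char.isGeneralizedCharacter_of_isCharacter (psS_isCharacter γ)))
      (Char.isGeneralizedCharacter_of_isCharacter (psS_isCharacter γ)))
      (Char.isGeneralizedCharacter_of_isCharacter (Char.IsCharacter.indFun C (Char.isCharacter_of_hom _)))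
  · intro g h
    simp only [Pi.sub_apply, Pi.mul_apply, Char.IsIrrCharacter.isClassFunction stS_irr g h,
      Char.IsCharacter.isClassFunction (psS_isCharacter γ) g h, Char.indFun_isClassFunction C (th θ) g h]
  · have h1 : indFun C (th θ) (1 : SL(2, F)) = (Fintype.card F : ℂ) * ((Fintype.card F : ℂ) - 1) := by
      have := indFun_center (th θ) (z := (1 : C)) (by simp)
      rw [OneMemClass.coe_one] at this
      rw [this, map_one, mul_one, isIntegralCoset hT]
    simp only [Pi.sub_apply, Pi.mul_apply, stS_one, psS_one, h1]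
    ring
  · have h1 : indFun C (th θ) (-1 : SL(2, F)) = (Fintype.card F : ℂ) * ((Fintype.card F : ℂ) - 1) * ε := by
      have := indFun_center (th θ) (z := negC hT hodd) ((not_mem_center_iff _).2 (Or.inr rfl))
      rw [coe_negC] at this
      rw [this, isIntegralCoset hT]
    have h2 : stS F (-1 : SL(2, F)) = (Fintype.card F : ℂ) := by
      rw [stS, Pi.sub_apply, psS_neg_one, one_apply_ne (neg_ne_zero.2 one_ne_zero), Pi.one_apply]
      ring
    simp only [Pi.sub_apply, Pi.mul_apply, h1, h2, psS_neg_one, hγ]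
    ring
  · intro b hb
    have h1 : indFun C (th θ) (uSL b) = 0 := extend_conj_of_no_conj _
      (not_conj_mem hT hodd (uSL_not_center hb) (Or.inl (by rw [tr_uSL]; norm_num)))
    simp only [Pi.sub_apply, Pi.mul_apply, h1, psS_u γ hb, stS, psS_u (1 : MulChar F ℂ) hb, Pi.one_apply]
    ring
  · intro b hb
    have h1 : indFun C (th θ) (-uSL b) = 0 := extend_conj_of_no_conj _
      (not_conj_mem hT hodd (neg_not_center (uSL_not_center hb))
        (Or.inl (by rw [PSL2.tr_neg, tr_uSL]; norm_num)))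
    simp only [Pi.sub_apply, Pi.mul_apply, h1, psS_neg, psS_u γ hb, stS, psS_u (1 : MulChar F ℂ) hb, Pi.one_apply,
      hγ, one_apply_ne (neg_ne_zero.2 (one_ne_zero (α := F)))]
    ring
  · intro a ha
    have h1 : indFun C (th θ) (dg a) = 0 := extend_conj_of_no_conj _
      (not_conj_mem hT hodd (mt (dg_mem_center_iff a).1 ha) (Or.inr ⟨(a : F), by
        rw [tr_dg]; field_simp; ring⟩))
    simp only [Pi.sub_apply, Pi.mul_apply, h1, stS, psS_dg (1 : MulChar F ℂ) ha, Pi.one_apply,
      one_apply_ne a.ne_zero, one_apply_ne (inv_ne_zero a.ne_zero)]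
    ring
  · intro c hc
    have hell := isEll_of_no_root (hT.no_root hodd c.2 hc)
    simp only [Pi.sub_apply, Pi.mul_apply, indFun_torus hT hodd (th θ) hc, psS_ell _ hell, th_inv]
    ring

open Classical in
theorem exists_disc (hT : IsTorus C) (hodd : Odd (Fintype.card F)) (θ : C →* ℂˣ) (hθ : ∃ c, θ c ^ 2 ≠ 1) :
    ∃ π : SL(2, F) → ℂ, IsIrrCharacter SL(2, F) π ∧ CuspVals π (th θ (negC hT hodd)) ∧
      ∀ c : C, (c : SL(2, F)) ∉ Subgroup.center SL(2, F) → π c = -(th θ c + (th θ c)⁻¹) := by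
  obtain ⟨π, hgen, hv, hπ⟩ := exists_virtual hT hodd θ
  refine ⟨π, ?_, hv, hπ⟩
  have hsum : ∑ c ∈ Finset.univ.filter (fun c : C => (c : SL(2, F)) ∉ Subgroup.center SL(2, F)), π c * conj (π c) =
      2 * ((Fintype.card F : ℂ) + 1) - 8 := by
    rw [Finset.sum_congr rfl (fun c hc => by
      rw [hπ c (Finset.mem_filter.1 hc).2, map_neg, map_add, map_inv₀, conj_th, inv_inv, neg_mul_neg]),
      sum_noncentral hT hodd]
    have e : ∀ c : C, (th θ c + (th θ c)⁻¹) * ((th θ c)⁻¹ + th θ c) =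
        th (θ ^ 2) c + th (θ ^ 2) c⁻¹ + 2 := by
      intro c
      have hne := th_ne_zero θ c
      rw [th_inv]
      simp only [th_apply, MonoidHom.pow_apply, Units.val_pow_eq_pow_val]
      rw [th_apply] at hne
      field_simp
      ring
    have hθ2 : θ ^ 2 ≠ 1 := fun h => by
      obtain ⟨c, hc⟩ := hθ
      exact hc (DFunLike.congr_fun h c)
    rw [Finset.sum_congr rfl (fun c _ => e c), Finset.sum_add_distrib, Finset.sum_add_distrib,
      sum_th_eq_zero _ hθ2, Fintype.sum_equiv (Equiv.inv C) (fun c => th (θ ^ 2) c⁻¹) (fun c => th (θ ^ 2) c) (fun _ => rfl),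
      sum_th_eq_zero _ hθ2,
      Finset.sum_const, Finset.card_univ, ← Nat.card_eq_fintype_card, hT.card, map_one, inv_one, nsmul_eq_mul]
    rcases hv.sign with h | h <;> rw [h] <;> push_cast <;> ring
  have hnorm : classInner π π = 1 := by
    have h := inner_cuspVals hodd hT hv hv
    rw [hsum, show th θ (negC hT hodd) * th θ (negC hT hodd) = 1 by rcases hv.sign with h | h <;> rw [h] <;> ring] at h
    apply mul_left_cancel₀ (mul_ne_zero (two_ne_zero' ℂ) (Nat.cast_add_one_ne_zero (Fintype.card F)))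
    linear_combination h
  obtain ⟨χ, hχ, h | h⟩ := Char.IsGeneralizedCharacter.exists_irr_of_norm_one hgen hnorm
  · exact h ▸ hχ
  · exfalso
    obtain ⟨n, hn, hn1⟩ := Char.IsIrrCharacter.exists_degree hχ
    have := hv.one
    rw [h, Pi.neg_apply, hn1] at this
    have : (n : ℂ) + (Fintype.card F : ℂ) = 1 := by linear_combination -this
    have h' : n + Fintype.card F = 1 := by exact_mod_cast this
    have := Fintype.one_lt_card (α := F); omega

open Classical in
theorem cusp_dichotomy' (hT : IsTorus C) (hodd : Odd (Fintype.card F)) {φ : SL(2, F) → ℂ} {ε : ℂ}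
    (hφ : CuspVals φ ε)
    (hdisc : ∀ θ : C →* ℂˣ, (∃ c, θ c ^ 2 ≠ 1) → ∀ π : SL(2, F) → ℂ, IsIrrCharacter SL(2, F) π →
      (∀ c : C, (c : SL(2, F)) ∉ Subgroup.center SL(2, F) → π c = -(th θ c + (th θ c)⁻¹)) → π 1 = (Fintype.card F : ℂ) - 1 → classInner φ π = 0)
    (h1 : classInner φ 1 = 0) (hst : classInner φ (stS F) = 0) :
    ε = th (sgn hT hodd) (negC hT hodd) ∧
      ∀ c : C, (c : SL(2, F)) ∉ Subgroup.center SL(2, F) → φ c = -2 * th (sgn hT hodd) c := by
  haveI := hT.cyc
  set z := negC hT hodd with hz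
  set S := Finset.univ.filter (fun c : C => (c : SL(2, F)) ∉ Subgroup.center SL(2, F)) with hS
  set s := sgn hT hodd with hsdef
  have hinvS : ∀ c ∈ S, φ ((c⁻¹ : C) : SL(2, F)) = φ c := by
    intro c hc
    obtain ⟨w, hw⟩ := GLOrder.exists_inverting_conj (two_ne_zero_of_odd hodd)
      (hT.tr_sq_ne hodd c.2 (Finset.mem_filter.1 hc).2)
    rw [Subgroup.coe_inv, ← hw, hφ.cls]
  have hflip : ∀ θ : C →* ℂˣ, ∑ c ∈ S, φ c * th θ c = ∑ c ∈ S, φ c * conj (th θ c) := by
    intro θ
    refine Finset.sum_nbij' (fun c => c⁻¹) (fun c => c⁻¹) ?_ ?_ ?_ ?_ ?_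
    · intro c hc; simpa [hS] using hc
    · intro c hc; simpa [hS] using hc
    · intro c _; simp
    · intro c _; simp
    · intro c hc
      rw [hinvS c hc, conj_th, th_inv, inv_inv]
  have hdata : ∀ θ : C →* ℂˣ, θ ≠ s → ∑ c ∈ S, φ c * conj (th θ c) = 2 * (1 + ε * th θ z) := by
    intro θ hθ
    obtain ⟨π, hv, hπ, h0⟩ : ∃ π, CuspVals π (th θ z) ∧
        (∀ c : C, (c : SL(2, F)) ∉ Subgroup.center SL(2, F) → π c = -(th θ c + (th θ c)⁻¹)) ∧
        classInner φ π = 0 := by
      by_cases h : ∀ c, θ c ^ 2 = 1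
      · obtain rfl := (eq_one_or_eq_sgn hT hodd θ h).resolve_right hθ
        have hst' : ∀ g, (stS F - 1) g = psS (1 : MulChar F ℂ) g - 1 - 1 := fun g => rfl
        have hone : th (1 : C →* ℂˣ) z = 1 := rfl
        refine ⟨stS F - 1, ⟨?_, Or.inl hone, ?_, ?_, ?_, ?_, ?_⟩, ?_, ?_⟩
        · exact Char.isClassFunction_sub (Char.IsIrrCharacter.isClassFunction stS_irr)
            (Char.IsIrrCharacter.isClassFunction Char.isIrrCharacter_one)
        · rw [hst', psS_one]; ring
        · rw [hst', psS_neg_one, one_apply_ne (neg_ne_zero.2 one_ne_zero), hone]; ring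
        · intro b hb; rw [hst', psS_u _ hb]; ring
        · intro b hb; rw [hst', psS_neg, psS_u _ hb, one_apply_ne (neg_ne_zero.2 one_ne_zero), hone]; ring
        · intro a ha
          rw [hst', psS_dg _ ha, one_apply_ne a.ne_zero, one_apply_ne (inv_ne_zero a.ne_zero)]; ring
        · intro c hc
          rw [hst', psS_ell _ (isEll_of_no_root (hT.no_root hodd c.2 hc)), show th (1 : C →* ℂˣ) c = 1 from rfl]
          ring
        · rw [Char.classInner_sub_right, hst, h1, sub_zero]
      · push Not at h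
        obtain ⟨π, hirr, hv, hπ⟩ := exists_disc hT hodd θ h
        exact ⟨π, hv, hπ, hdisc θ h π hirr hπ hv.one⟩
    have h := inner_cuspVals hodd hT hφ hv
    rw [h0, mul_zero, Finset.sum_congr rfl (fun c hc => by
      rw [hπ c (Finset.mem_filter.1 hc).2, map_neg, map_add, map_inv₀, conj_th, inv_inv, mul_neg, mul_add,
        ← conj_th]), Finset.sum_neg_distrib, Finset.sum_add_distrib, ← hS, hflip θ] at h
    linear_combination h / 2
  have hsum0 : ∀ θ : C →* ℂˣ, θ ≠ s → ∑ c, th s c * conj (th θ c) = 0 := by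
    intro θ hθ
    rw [Finset.sum_congr rfl (fun c _ => show th s c * conj (th θ c) = th (s * θ⁻¹) c by
      rw [conj_th, th_apply, th_apply, th_apply, MonoidHom.mul_apply, MonoidHom.inv_apply, Units.val_mul,
        Units.val_inv_eq_inv_val])]
    exact sum_th_eq_zero _ fun h => hθ (mul_inv_eq_one.1 h).symm
  have hsz := th_negC_sign hT hodd s
  rw [← hz] at hsz
  let δ : C → ℂ := fun c => if c = z then 1 else 0
  let h : C → ℂ := fun c => if (c : SL(2, F)) ∈ Subgroup.center SL(2, F) then 0 else φ c + 2 * th s c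
  have hh : ∀ θ : C →* ℂˣ, ∑ c, h c * conj (th θ c) =
      (∑ c ∈ S, φ c * conj (th θ c)) + 2 * ∑ c ∈ S, th s c * conj (th θ c) := by
    intro θ
    rw [Finset.mul_sum, ← Finset.sum_add_distrib, hS, Finset.sum_filter]
    refine Finset.sum_congr rfl fun c _ => ?_
    by_cases hc : (c : SL(2, F)) ∈ Subgroup.center SL(2, F)
    · simp [h, hc]
    · simp only [h, if_neg hc, if_pos hc]; ring
  let k : ℂ := ((∑ c, h c * conj (th s c)) - 2 * (ε - th s z) * th s z) / ((Fintype.card F : ℂ) + 1)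
  have hg : ∀ c, h c - k * th s c - 2 * (ε - th s z) * δ c = 0 := by
    refine congrFun (eq_zero_of_fourier hT (fun c => h c - k * th s c - 2 * (ε - th s z) * δ c) fun θ => ?_)
    simp only [sub_mul, Finset.sum_sub_distrib, mul_assoc, ← Finset.mul_sum]
    have hδ : ∑ c, δ c * conj (th θ c) = th θ z := by
      simp only [δ, ite_mul, one_mul, zero_mul, Finset.sum_ite_eq', Finset.mem_univ, if_true, conj_th]
      rcases th_negC_sign hT hodd θ with e | e <;> simp [hz, e]
    rw [hδ]
    by_cases hθ : θ = s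
    · subst hθ
      have hone : ∑ c, th s c * conj (th s c) = (Fintype.card F : ℂ) + 1 := by
        rw [Finset.sum_congr rfl (fun c _ => show th s c * conj (th s c) = 1 by
          rw [conj_th, mul_inv_cancel₀ (th_ne_zero s c)]), Finset.sum_const, Finset.card_univ,
          ← Nat.card_eq_fintype_card, hT.card, nsmul_eq_mul, mul_one, Nat.cast_add, Nat.cast_one]
      rw [hone]
      simp only [k]
      rw [div_mul_cancel₀ _ (Nat.cast_add_one_ne_zero _)]
      ring
    · rw [hh, hdata θ hθ, hsum0 θ hθ, hS, sum_noncentral hT hodd, hsum0 θ hθ, map_one, map_one, map_one, conj_th,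
        ← hz]
      have hθz := th_negC_sign hT hodd θ
      rw [← hz] at hθz
      rcases hθz with e | e <;> rw [e] <;> ring
  have hne : (1 : C) ≠ z := fun e => one_ne_neg_one (F := F) hodd (congrArg Subtype.val e)
  have hk : k = 0 := by
    have := hg 1
    simp [h, δ, hne] at this
    exact this
  have hεs : ε = th s z := by
    have := hg z
    simp [h, δ, hz, coe_negC, GLOrder.center_SL2, hk] at this
    rw [hz]
    linear_combination this
  refine ⟨hεs, fun c hc => ?_⟩
  have := hg c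
  rw [hk, hεs] at this
  simp only [h, if_neg hc] at this
  linear_combination this

end Cfsg.Agent.SL2Cusp
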