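/-
Consequences of the dichotomy for cuspidal characters.

Main results (namespace `Cfsg.Agent.SL2Cusp`):
* `res_cuspVals` : a restricted cuspidal character has the common values
* `split_cusp_values` : two halves of degree `(q-1)/2` sum to `-2 sgn` on the torus
-/
import Cfsg.Agent.Lib.SL2Cusp.Disc

set_option autoImplicit false
set_option linter.unusedSectionVars false

namespace Cfsg.Agent.SL2Cusp

open Matrix Cfsg GLTwoChar
open scoped MatrixGroups ComplexConjugate

variable {F : Type*} [Field F] [Fintype F] [DecidableEq F]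

theorem res_cuspVals {ψ : GL (Fin 2) F → ℂ} (hψ : IsIrrCharacter (GL (Fin 2) F) ψ)
    (hc : (glDatum F).Cusp ψ) :
    ∃ ε : ℂ, CuspVals (res ψ) ε ∧ ∀ g : SL(2, F), res ψ (-g) = ε * res ψ g := by
  obtain ⟨c, hcn⟩ := res_neg_apply hψ
  have hres := res_isCharacter (Char.IsIrrCharacter.isCharacter hψ)
  have hq := Fintype.one_lt_card (α := F)
  have hne : (Fintype.card F : ℂ) - 1 ≠ 0 := sub_ne_zero.2 (by exact_mod_cast (by omega : Fintype.card F ≠ 1))
  have hsign : c = 1 ∨ c = -1 := by
    refine mul_self_eq_one_iff.1 ?_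
    have h1 := hcn (-1)
    rw [neg_neg, hcn 1, ← mul_assoc, res_cusp_one hψ hc] at h1
    exact mul_right_cancel₀ hne (h1.symm.trans (one_mul _).symm)
  refine ⟨c, ⟨Char.IsCharacter.isClassFunction hres, hsign, res_cusp_one hψ hc, ?_, fun b hb => res_cusp_u hψ hc hb,
    fun b hb => ?_, fun a ha => res_cusp_diag hψ hc ha⟩, hcn⟩
  · rw [hcn, res_cusp_one hψ hc]
  · rw [hcn, res_cusp_u hψ hc hb]; ring

theorem split_cusp_values (hodd : Odd (Fintype.card F)) (hq : 5 ≤ Fintype.card F) {C : Subgroup SL(2, F)}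
    (hT : IsTorus C) {e : F} {he : e ≠ 0} {ψ : GL (Fin 2) F → ℂ} (hψ : IsIrrCharacter (GL (Fin 2) F) ψ)
    (hc : (glDatum F).Cusp ψ) {θ : SL(2, F) → ℂ} (hs : Splits he (res ψ) θ) {c : C}
    (hcz : (c : SL(2, F)) ∉ Subgroup.center SL(2, F)) :
    res ψ c = -2 * th (sgn hT hodd) c := by
  obtain ⟨ε, hv, -⟩ := res_cuspVals hψ hc
  have h1 := half_one hs (χ := θ) (Or.inl rfl)
  have h2 := half_one hs (χ := fun h => θ (outer he h)) (Or.inr rfl)
  rw [res_cusp_one hψ hc] at h1 h2
  obtain ⟨hθ, hθ', -, hsum⟩ := hs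
  have orth : ∀ η : SL(2, F) → ℂ, IsIrrCharacter SL(2, F) η → 2 * η 1 ≠ (Fintype.card F : ℂ) - 1 →
      classInner (res ψ) η = 0 := by
    intro η hη hne
    rw [hsum, Char.classInner_add_left, Char.classInner_irr_of_ne hθ hη (fun h => hne (h ▸ h1)),
      Char.classInner_irr_of_ne hθ' hη (fun h => hne (h ▸ h2)), add_zero]
  refine (cusp_dichotomy' hT hodd hv (fun _ _ π hπ _ hd => ?_) (orth 1 Char.isIrrCharacter_one ?_)
    (orth _ stS_irr ?_)).2 c hcz
  · refine orth π hπ ?_
    rw [hd]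
    intro h
    have : (Fintype.card F : ℂ) = (1 : ℕ) := by push_cast; linear_combination h
    have : Fintype.card F = 1 := by exact_mod_cast this
    omega
  · rw [Pi.one_apply]
    intro h
    have : (Fintype.card F : ℂ) = (3 : ℕ) := by push_cast; linear_combination -h
    have : Fintype.card F = 3 := by exact_mod_cast this
    omega
  · rw [stS_one]
    intro h
    exact Nat.cast_add_one_ne_zero (Fintype.card F) (by linear_combination h : (Fintype.card F : ℂ) + 1 = 0)

end Cfsg.Agent.SL2Cusp
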